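import Cfsg.Agent.CosetEnum.Fi24.Y8Data

/-! Certificate of a coset enumeration (generated data, owner: helper28). -/

set_option autoImplicit false
set_option maxRecDepth 1000000

namespace Cfsg.Agent.CosetEnum.Fi24Y8

def ck0_0 : CK := .cons 32 32 0x3201900080c4000400201101080240120012011004806403201901880a4052002201101480a40004002001000806401203100090048064042011008801480840520210108084062001000800400200100080a400240120090048084022031001100c806402202101880440620090048024012009018800880440220290088024032019002100c806406203100c806401201100880440220310088024032029001900880440420052011004806403203101480840420042029014806402201101480c40620290148084052029014808403201900210148084042029010808404202100c806403201900c8044022021008804401200900c8064032009000804402201100880040120090048024012001000800400200100080100080040020010008004 (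
 .cons 32 32 0xc80440420090048004800403201900c8004000080c4000400200900c8064032005202900010008004002029001100880440520210148004802401200420010008000802401201900c806406201900c8004062000200100c8044062002200120090048024002031004802401200900480148000800400201100880840020010001008808402201100090188004802406202901080a4052029000100080040020010048084032003200100210148008804404202100480240024042019018806403200900080640320190008000804402201100880c4042021014800080040020190019004800c804404202900880440220210008004000403201900c80240084052001200900480440420190019 (
 .cons 32 32 0x3201100110088014800090048024042009018800480240320290000200100880440420290188064022021008804400a4052001200900480c4052002201100880a403200120090009010800010008004032001018800080040320190148010808403201101880088064032021004802400240420290001000800402200320190048008800080040004042021002101480840320190188064032009000804402201100880c402201900c80048008808400200100010108084052021010808406202900090048024012029001900c80040044022005201100c8064032009002100c8024062001200900c80640320002002201101080c40220000400200100080240520032019 (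
 .cons 24 24 0x10806403203101880640320190088044008406202900c804402202101480c40220110048064032000c403201101080440220062011018806403201900480188000800400200100080e4062009004802401200900c8044022021014804402200901080019008802403201900c80108064052000440320210048024002400201900c8064002002201100880440620110048084032003201100480a4006403202901480840008804404201900880c4004404202900012009008808400200100010048064032019018804401200900c806403203101480840520022011 ( .nil ))))

theorem part0_0 : chunks P L 120 ck0_0 0 120 = true := by decide +kernel

end Cfsg.Agent.CosetEnum.Fi24Y8
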