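import Cfsg.Agent.CosetEnum.Fi24.Y9Data

/-! Certificate of a coset enumeration (generated data, owner: helper28). -/

set_option autoImplicit false
set_option maxRecDepth 1000000

namespace Cfsg.Agent.CosetEnum.Fi24Y9

def ck9_0 : CK := .cons 32 32 0x8800c80000000000440000000000900002400000440000220000000090002200064000090000001200000044012000000000088000000120000480000021004800c80011000220000022000000088000000120000000880000002200000008806402201900c800480148064022000a404200901480840220002404200900c8064006403200520110148064022000a4042009008804400640320052005201900c8002900c802404201100c800880240320090088064004400a4042005200900c800110108084032021010800042009 (
 .cons 24 24 0x880000002200000004800000022000000048000000220000000880640000320022021000014800480000009008804400004200220190000108004800110088000220190000108008806400003200220000290002200064032000048000014800880000a4000880000440008800110088000220032000a40004800880000c4022003200000220004403200 ( .nil ))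

theorem part9_0 : chunks P L 36920 ck9_0 36864 56 = true := by decide +kernel

end Cfsg.Agent.CosetEnum.Fi24Y9
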