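import Cfsg.Agent.CosetEnum.Step
import Cfsg.Agent.CosetEnum.Fi24.Y9P0
import Cfsg.Agent.CosetEnum.Fi24.Y9P1
import Cfsg.Agent.CosetEnum.Fi24.Y9P2
import Cfsg.Agent.CosetEnum.Fi24.Y9P3
import Cfsg.Agent.CosetEnum.Fi24.Y9P4
import Cfsg.Agent.CosetEnum.Fi24.Y9P5
import Cfsg.Agent.CosetEnum.Fi24.Y9P6
import Cfsg.Agent.CosetEnum.Fi24.Y9P7
import Cfsg.Agent.CosetEnum.Fi24.Y9P8
import Cfsg.Agent.CosetEnum.Fi24.Y9P9
import Cfsg.Agent.CosetEnum.Fi24.Y8P0
import Cfsg.Agent.CosetEnum.Fi24.Y7P0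
import Cfsg.Agent.CosetEnum.Level
import Cfsg.Agent.CosetEnum.Fi24.TYR0
import Cfsg.Agent.CosetEnum.Fi24.TYR1
import Cfsg.Agent.CosetEnum.Fi24.SY0

/-! Certificates of coset enumerations and tables (generated, owner: helper28). -/

set_option autoImplicit false
set_option maxRecDepth 1000000

namespace Cfsg.Agent.CosetEnum.Fi24Y9

theorem st : staticOK 9 iv (RL.map expand) subs P L = true := by decide +kernel

theorem seg0 : Seg P L 4096 3157 :=
  ((((((((Seg.nil).snoc part0_0).snoc part0_1).snoc part0_2).snoc part0_3).snoc part0_4).snoc part0_5).snoc part0_6).snoc part0_7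

theorem seg1 : Seg P L 8192 5806 :=
  ((((((((seg0).snoc part1_0).snoc part1_1).snoc part1_2).snoc part1_3).snoc part1_4).snoc part1_5).snoc part1_6).snoc part1_7

theorem seg2 : Seg P L 12288 8335 :=
  ((((((((seg1).snoc part2_0).snoc part2_1).snoc part2_2).snoc part2_3).snoc part2_4).snoc part2_5).snoc part2_6).snoc part2_7

theorem seg3 : Seg P L 16384 10686 :=
  ((((((((seg2).snoc part3_0).snoc part3_1).snoc part3_2).snoc part3_3).snoc part3_4).snoc part3_5).snoc part3_6).snoc part3_7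

theorem seg4 : Seg P L 20480 13182 :=
  ((((((((seg3).snoc part4_0).snoc part4_1).snoc part4_2).snoc part4_3).snoc part4_4).snoc part4_5).snoc part4_6).snoc part4_7

theorem seg5 : Seg P L 24576 16087 :=
  ((((((((seg4).snoc part5_0).snoc part5_1).snoc part5_2).snoc part5_3).snoc part5_4).snoc part5_5).snoc part5_6).snoc part5_7

theorem seg6 : Seg P L 28672 20183 :=
  ((((((((seg5).snoc part6_0).snoc part6_1).snoc part6_2).snoc part6_3).snoc part6_4).snoc part6_5).snoc part6_6).snoc part6_7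

theorem seg7 : Seg P L 32768 24279 :=
  ((((((((seg6).snoc part7_0).snoc part7_1).snoc part7_2).snoc part7_3).snoc part7_4).snoc part7_5).snoc part7_6).snoc part7_7

theorem seg8 : Seg P L 36864 28375 :=
  ((((((((seg7).snoc part8_0).snoc part8_1).snoc part8_2).snoc part8_3).snoc part8_4).snoc part8_5).snoc part8_6).snoc part8_7

theorem seg9 : Seg P L 36920 28431 :=
  (seg8).snoc part9_0

theorem seg : Seg P L P.m 28431 := seg9

theorem cert : Cert 9 iv RL subs 28431 := fun g H hl hrels hsubs =>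
  upper g H 9 iv hl (RL.map expand) subs hrels hsubs P L rfl st seg

end Cfsg.Agent.CosetEnum.Fi24Y9
namespace Cfsg.Agent.CosetEnum.Fi24Y8

theorem st : staticOK 8 iv (RL.map expand) subs P L = true := by decide +kernel

theorem seg0 : Seg P L 120 120 :=
  (Seg.nil).snoc part0_0

theorem seg : Seg P L P.m 120 := seg0

theorem cert : Cert 8 iv RL subs 120 := fun g H hl hrels hsubs =>
  upper g H 8 iv hl (RL.map expand) subs hrels hsubs P L rfl st seg

end Cfsg.Agent.CosetEnum.Fi24Y8
namespace Cfsg.Agent.CosetEnum.Fi24Y7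

theorem st : staticOK 7 iv (RL.map expand) subs P L = true := by decide +kernel

theorem seg0 : Seg P L 56 56 :=
  (Seg.nil).snoc part0_0

theorem seg : Seg P L P.m 56 := seg0

theorem cert : Cert 7 iv RL subs 56 := fun g H hl hrels hsubs =>
  upper g H 7 iv hl (RL.map expand) subs hrels hsubs P L rfl st seg

end Cfsg.Agent.CosetEnum.Fi24Y7
namespace Cfsg.Agent.CosetEnum.Fi24TY

theorem st : letsB 9 iv lets RL = true := by decide +kernel

theorem tabOK : TabOK P 9 iv lets RL := ⟨st, (Cov.of r0 rfl).trans (Cov.of r1 rfl)⟩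

theorem covO : Cov (orbC P lets [] 0 P.m) 0 P.m := (Cov.of o0 rfl).trans (Cov.of o1 rfl)

end Cfsg.Agent.CosetEnum.Fi24TY
namespace Cfsg.Agent.CosetEnum.Fi24TY

theorem zt : Cov (trivB P usS) 0 P.m := Cov.of zt0 rfl

end Cfsg.Agent.CosetEnum.Fi24TY
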