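import Cfsg.Agent.CosetEnum.Fi24.F12Data

/-! Certificate of a coset enumeration (generated data, owner: helper28). -/

set_option autoImplicit false
set_option maxRecDepth 1000000

namespace Cfsg.Agent.CosetEnum.Fi24F12

def ck75_0 : CK := .cons 32 32 0x420210148084052000c4001080c4062006200001900c80a40520290148044052000c4006400840420042021014800008403201100110000a40002101080a4042029000320190029010808400440014800006402200220000042003201100000c800006402200220001480840010808405202101480a40520001080840520210148003100c8010806402200000002101080a4022005202900190004202100110000c40002101080088000620001080840044000000210108008800062019000320110000000108084004400a4000006402200220000032006203101480440520000c806400a4052005200018800c808403201100000001080840520110029000320006402200000002101080088000064001480a4004400a40520006400640220000000190088000000084042002200018800032011000000 (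
 .cons 31 31 0x19008800880000004202100110000000840420022000000108084004400000021010800880000004202100110000000840420022000000108084004400000021010800880000004202100110000000840420022000000108084004400000021010800880000004202100110000000840420022000000108084004400000021010800880000004202100110000000a405202901480031018800c808406203101880c40620310003201901080c406202901880031001900c808405202901480a40620042031001901080a405203101480c40420062003202101880c407203101c80e4000c8064042029014801480a40018800c80840620310031014800032019014808404200220000c8064001480a4004400a40520006400a40520052006203100062021010808405202101480a4000c80148084042021010801480a400021 ( .nil ))

theorem part75_0 : chunks P L 307263 ck75_0 307200 63 = true := by decide +kernel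

end Cfsg.Agent.CosetEnum.Fi24F12
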