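import Cfsg.Agent.CosetEnum.Step
import Cfsg.Agent.CosetEnum.Fi24.F12P0
import Cfsg.Agent.CosetEnum.Fi24.F12P1
import Cfsg.Agent.CosetEnum.Fi24.F12P2
import Cfsg.Agent.CosetEnum.Fi24.F12P3
import Cfsg.Agent.CosetEnum.Fi24.F12P4
import Cfsg.Agent.CosetEnum.Fi24.F12P5
import Cfsg.Agent.CosetEnum.Fi24.F12P6
import Cfsg.Agent.CosetEnum.Fi24.F12P7
import Cfsg.Agent.CosetEnum.Fi24.F12P8
import Cfsg.Agent.CosetEnum.Fi24.F12P9
import Cfsg.Agent.CosetEnum.Fi24.F12P10
import Cfsg.Agent.CosetEnum.Fi24.F12P11
import Cfsg.Agent.CosetEnum.Fi24.F12P12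
import Cfsg.Agent.CosetEnum.Fi24.F12P13
import Cfsg.Agent.CosetEnum.Fi24.F12P14
import Cfsg.Agent.CosetEnum.Fi24.F12P15
import Cfsg.Agent.CosetEnum.Fi24.F12P16
import Cfsg.Agent.CosetEnum.Fi24.F12P17
import Cfsg.Agent.CosetEnum.Fi24.F12P18
import Cfsg.Agent.CosetEnum.Fi24.F12P19
import Cfsg.Agent.CosetEnum.Fi24.F12P20
import Cfsg.Agent.CosetEnum.Fi24.F12P21
import Cfsg.Agent.CosetEnum.Fi24.F12P22
import Cfsg.Agent.CosetEnum.Fi24.F12P23
import Cfsg.Agent.CosetEnum.Fi24.F12P24
import Cfsg.Agent.CosetEnum.Fi24.F12P25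
import Cfsg.Agent.CosetEnum.Fi24.F12P26
import Cfsg.Agent.CosetEnum.Fi24.F12P27
import Cfsg.Agent.CosetEnum.Fi24.F12P28
import Cfsg.Agent.CosetEnum.Fi24.F12P29
import Cfsg.Agent.CosetEnum.Fi24.F12P30
import Cfsg.Agent.CosetEnum.Fi24.F12P31
import Cfsg.Agent.CosetEnum.Fi24.F12P32
import Cfsg.Agent.CosetEnum.Fi24.F12P33
import Cfsg.Agent.CosetEnum.Fi24.F12P34
import Cfsg.Agent.CosetEnum.Fi24.F12P35
import Cfsg.Agent.CosetEnum.Fi24.F12P36
import Cfsg.Agent.CosetEnum.Fi24.F12P37
import Cfsg.Agent.CosetEnum.Fi24.F12P38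
import Cfsg.Agent.CosetEnum.Fi24.F12P39
import Cfsg.Agent.CosetEnum.Fi24.F12P40
import Cfsg.Agent.CosetEnum.Fi24.F12P41
import Cfsg.Agent.CosetEnum.Fi24.F12P42
import Cfsg.Agent.CosetEnum.Fi24.F12P43
import Cfsg.Agent.CosetEnum.Fi24.F12P44
import Cfsg.Agent.CosetEnum.Fi24.F12P45
import Cfsg.Agent.CosetEnum.Fi24.F12P46
import Cfsg.Agent.CosetEnum.Fi24.F12P47
import Cfsg.Agent.CosetEnum.Fi24.F12P48
import Cfsg.Agent.CosetEnum.Fi24.F12P49
import Cfsg.Agent.CosetEnum.Fi24.F12P50
import Cfsg.Agent.CosetEnum.Fi24.F12P51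
import Cfsg.Agent.CosetEnum.Fi24.F12P52
import Cfsg.Agent.CosetEnum.Fi24.F12P53
import Cfsg.Agent.CosetEnum.Fi24.F12P54
import Cfsg.Agent.CosetEnum.Fi24.F12P55
import Cfsg.Agent.CosetEnum.Fi24.F12P56
import Cfsg.Agent.CosetEnum.Fi24.F12P57
import Cfsg.Agent.CosetEnum.Fi24.F12P58
import Cfsg.Agent.CosetEnum.Fi24.F12P59
import Cfsg.Agent.CosetEnum.Fi24.F12P60
import Cfsg.Agent.CosetEnum.Fi24.F12P61
import Cfsg.Agent.CosetEnum.Fi24.F12P62
import Cfsg.Agent.CosetEnum.Fi24.F12P63
import Cfsg.Agent.CosetEnum.Fi24.F12P64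
import Cfsg.Agent.CosetEnum.Fi24.F12P65
import Cfsg.Agent.CosetEnum.Fi24.F12P66
import Cfsg.Agent.CosetEnum.Fi24.F12P67
import Cfsg.Agent.CosetEnum.Fi24.F12P68
import Cfsg.Agent.CosetEnum.Fi24.F12P69
import Cfsg.Agent.CosetEnum.Fi24.F12P70
import Cfsg.Agent.CosetEnum.Fi24.F12P71
import Cfsg.Agent.CosetEnum.Fi24.F12P72
import Cfsg.Agent.CosetEnum.Fi24.F12P73
import Cfsg.Agent.CosetEnum.Fi24.F12P74
import Cfsg.Agent.CosetEnum.Fi24.F12P75

/-! Certificate of a coset enumeration (generated data, owner: helper28). -/

set_option autoImplicit false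
set_option maxRecDepth 1000000

namespace Cfsg.Agent.CosetEnum.Fi24F12

theorem st : staticOK 12 iv (RL.map expand) subs P L = true := by decide +kernel

theorem seg0 : Seg P L 4096 3840 :=
  ((((((((Seg.nil).snoc part0_0).snoc part0_1).snoc part0_2).snoc part0_3).snoc part0_4).snoc part0_5).snoc part0_6).snoc part0_7

theorem seg1 : Seg P L 8192 7913 :=
  ((((((((seg0).snoc part1_0).snoc part1_1).snoc part1_2).snoc part1_3).snoc part1_4).snoc part1_5).snoc part1_6).snoc part1_7

theorem seg2 : Seg P L 12288 12009 :=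
  ((((((((seg1).snoc part2_0).snoc part2_1).snoc part2_2).snoc part2_3).snoc part2_4).snoc part2_5).snoc part2_6).snoc part2_7

theorem seg3 : Seg P L 16384 16105 :=
  ((((((((seg2).snoc part3_0).snoc part3_1).snoc part3_2).snoc part3_3).snoc part3_4).snoc part3_5).snoc part3_6).snoc part3_7

theorem seg4 : Seg P L 20480 20201 :=
  ((((((((seg3).snoc part4_0).snoc part4_1).snoc part4_2).snoc part4_3).snoc part4_4).snoc part4_5).snoc part4_6).snoc part4_7

theorem seg5 : Seg P L 24576 24283 :=
  ((((((((seg4).snoc part5_0).snoc part5_1).snoc part5_2).snoc part5_3).snoc part5_4).snoc part5_5).snoc part5_6).snoc part5_7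

theorem seg6 : Seg P L 28672 28372 :=
  ((((((((seg5).snoc part6_0).snoc part6_1).snoc part6_2).snoc part6_3).snoc part6_4).snoc part6_5).snoc part6_6).snoc part6_7

theorem seg7 : Seg P L 32768 32467 :=
  ((((((((seg6).snoc part7_0).snoc part7_1).snoc part7_2).snoc part7_3).snoc part7_4).snoc part7_5).snoc part7_6).snoc part7_7

theorem seg8 : Seg P L 36864 36563 :=
  ((((((((seg7).snoc part8_0).snoc part8_1).snoc part8_2).snoc part8_3).snoc part8_4).snoc part8_5).snoc part8_6).snoc part8_7

theorem seg9 : Seg P L 40960 40659 :=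
  ((((((((seg8).snoc part9_0).snoc part9_1).snoc part9_2).snoc part9_3).snoc part9_4).snoc part9_5).snoc part9_6).snoc part9_7

theorem seg10 : Seg P L 45056 44755 :=
  ((((((((seg9).snoc part10_0).snoc part10_1).snoc part10_2).snoc part10_3).snoc part10_4).snoc part10_5).snoc part10_6).snoc part10_7

theorem seg11 : Seg P L 49152 48851 :=
  ((((((((seg10).snoc part11_0).snoc part11_1).snoc part11_2).snoc part11_3).snoc part11_4).snoc part11_5).snoc part11_6).snoc part11_7

theorem seg12 : Seg P L 53248 52947 :=
  ((((((((seg11).snoc part12_0).snoc part12_1).snoc part12_2).snoc part12_3).snoc part12_4).snoc part12_5).snoc part12_6).snoc part12_7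

theorem seg13 : Seg P L 57344 57043 :=
  ((((((((seg12).snoc part13_0).snoc part13_1).snoc part13_2).snoc part13_3).snoc part13_4).snoc part13_5).snoc part13_6).snoc part13_7

theorem seg14 : Seg P L 61440 61139 :=
  ((((((((seg13).snoc part14_0).snoc part14_1).snoc part14_2).snoc part14_3).snoc part14_4).snoc part14_5).snoc part14_6).snoc part14_7

theorem seg15 : Seg P L 65536 65235 :=
  ((((((((seg14).snoc part15_0).snoc part15_1).snoc part15_2).snoc part15_3).snoc part15_4).snoc part15_5).snoc part15_6).snoc part15_7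

theorem seg16 : Seg P L 69632 69331 :=
  ((((((((seg15).snoc part16_0).snoc part16_1).snoc part16_2).snoc part16_3).snoc part16_4).snoc part16_5).snoc part16_6).snoc part16_7

theorem seg17 : Seg P L 73728 73421 :=
  ((((((((seg16).snoc part17_0).snoc part17_1).snoc part17_2).snoc part17_3).snoc part17_4).snoc part17_5).snoc part17_6).snoc part17_7

theorem seg18 : Seg P L 77824 77517 :=
  ((((((((seg17).snoc part18_0).snoc part18_1).snoc part18_2).snoc part18_3).snoc part18_4).snoc part18_5).snoc part18_6).snoc part18_7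

theorem seg19 : Seg P L 81920 81613 :=
  ((((((((seg18).snoc part19_0).snoc part19_1).snoc part19_2).snoc part19_3).snoc part19_4).snoc part19_5).snoc part19_6).snoc part19_7

theorem seg20 : Seg P L 86016 85709 :=
  ((((((((seg19).snoc part20_0).snoc part20_1).snoc part20_2).snoc part20_3).snoc part20_4).snoc part20_5).snoc part20_6).snoc part20_7

theorem seg21 : Seg P L 90112 89805 :=
  ((((((((seg20).snoc part21_0).snoc part21_1).snoc part21_2).snoc part21_3).snoc part21_4).snoc part21_5).snoc part21_6).snoc part21_7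

theorem seg22 : Seg P L 94208 93901 :=
  ((((((((seg21).snoc part22_0).snoc part22_1).snoc part22_2).snoc part22_3).snoc part22_4).snoc part22_5).snoc part22_6).snoc part22_7

theorem seg23 : Seg P L 98304 97997 :=
  ((((((((seg22).snoc part23_0).snoc part23_1).snoc part23_2).snoc part23_3).snoc part23_4).snoc part23_5).snoc part23_6).snoc part23_7

theorem seg24 : Seg P L 102400 102093 :=
  ((((((((seg23).snoc part24_0).snoc part24_1).snoc part24_2).snoc part24_3).snoc part24_4).snoc part24_5).snoc part24_6).snoc part24_7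

theorem seg25 : Seg P L 106496 106189 :=
  ((((((((seg24).snoc part25_0).snoc part25_1).snoc part25_2).snoc part25_3).snoc part25_4).snoc part25_5).snoc part25_6).snoc part25_7

theorem seg26 : Seg P L 110592 110285 :=
  ((((((((seg25).snoc part26_0).snoc part26_1).snoc part26_2).snoc part26_3).snoc part26_4).snoc part26_5).snoc part26_6).snoc part26_7

theorem seg27 : Seg P L 114688 114381 :=
  ((((((((seg26).snoc part27_0).snoc part27_1).snoc part27_2).snoc part27_3).snoc part27_4).snoc part27_5).snoc part27_6).snoc part27_7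

theorem seg28 : Seg P L 118784 118477 :=
  ((((((((seg27).snoc part28_0).snoc part28_1).snoc part28_2).snoc part28_3).snoc part28_4).snoc part28_5).snoc part28_6).snoc part28_7

theorem seg29 : Seg P L 122880 122573 :=
  ((((((((seg28).snoc part29_0).snoc part29_1).snoc part29_2).snoc part29_3).snoc part29_4).snoc part29_5).snoc part29_6).snoc part29_7

theorem seg30 : Seg P L 126976 126669 :=
  ((((((((seg29).snoc part30_0).snoc part30_1).snoc part30_2).snoc part30_3).snoc part30_4).snoc part30_5).snoc part30_6).snoc part30_7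

theorem seg31 : Seg P L 131072 130765 :=
  ((((((((seg30).snoc part31_0).snoc part31_1).snoc part31_2).snoc part31_3).snoc part31_4).snoc part31_5).snoc part31_6).snoc part31_7

theorem seg32 : Seg P L 135168 134861 :=
  ((((((((seg31).snoc part32_0).snoc part32_1).snoc part32_2).snoc part32_3).snoc part32_4).snoc part32_5).snoc part32_6).snoc part32_7

theorem seg33 : Seg P L 139264 138957 :=
  ((((((((seg32).snoc part33_0).snoc part33_1).snoc part33_2).snoc part33_3).snoc part33_4).snoc part33_5).snoc part33_6).snoc part33_7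

theorem seg34 : Seg P L 143360 143043 :=
  ((((((((seg33).snoc part34_0).snoc part34_1).snoc part34_2).snoc part34_3).snoc part34_4).snoc part34_5).snoc part34_6).snoc part34_7

theorem seg35 : Seg P L 147456 147139 :=
  ((((((((seg34).snoc part35_0).snoc part35_1).snoc part35_2).snoc part35_3).snoc part35_4).snoc part35_5).snoc part35_6).snoc part35_7

theorem seg36 : Seg P L 151552 151235 :=
  ((((((((seg35).snoc part36_0).snoc part36_1).snoc part36_2).snoc part36_3).snoc part36_4).snoc part36_5).snoc part36_6).snoc part36_7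

theorem seg37 : Seg P L 155648 155321 :=
  ((((((((seg36).snoc part37_0).snoc part37_1).snoc part37_2).snoc part37_3).snoc part37_4).snoc part37_5).snoc part37_6).snoc part37_7

theorem seg38 : Seg P L 159744 159417 :=
  ((((((((seg37).snoc part38_0).snoc part38_1).snoc part38_2).snoc part38_3).snoc part38_4).snoc part38_5).snoc part38_6).snoc part38_7

theorem seg39 : Seg P L 163840 163513 :=
  ((((((((seg38).snoc part39_0).snoc part39_1).snoc part39_2).snoc part39_3).snoc part39_4).snoc part39_5).snoc part39_6).snoc part39_7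

theorem seg40 : Seg P L 167936 167609 :=
  ((((((((seg39).snoc part40_0).snoc part40_1).snoc part40_2).snoc part40_3).snoc part40_4).snoc part40_5).snoc part40_6).snoc part40_7

theorem seg41 : Seg P L 172032 171705 :=
  ((((((((seg40).snoc part41_0).snoc part41_1).snoc part41_2).snoc part41_3).snoc part41_4).snoc part41_5).snoc part41_6).snoc part41_7

theorem seg42 : Seg P L 176128 175801 :=
  ((((((((seg41).snoc part42_0).snoc part42_1).snoc part42_2).snoc part42_3).snoc part42_4).snoc part42_5).snoc part42_6).snoc part42_7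

theorem seg43 : Seg P L 180224 179897 :=
  ((((((((seg42).snoc part43_0).snoc part43_1).snoc part43_2).snoc part43_3).snoc part43_4).snoc part43_5).snoc part43_6).snoc part43_7

theorem seg44 : Seg P L 184320 183993 :=
  ((((((((seg43).snoc part44_0).snoc part44_1).snoc part44_2).snoc part44_3).snoc part44_4).snoc part44_5).snoc part44_6).snoc part44_7

theorem seg45 : Seg P L 188416 188089 :=
  ((((((((seg44).snoc part45_0).snoc part45_1).snoc part45_2).snoc part45_3).snoc part45_4).snoc part45_5).snoc part45_6).snoc part45_7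

theorem seg46 : Seg P L 192512 192185 :=
  ((((((((seg45).snoc part46_0).snoc part46_1).snoc part46_2).snoc part46_3).snoc part46_4).snoc part46_5).snoc part46_6).snoc part46_7

theorem seg47 : Seg P L 196608 196281 :=
  ((((((((seg46).snoc part47_0).snoc part47_1).snoc part47_2).snoc part47_3).snoc part47_4).snoc part47_5).snoc part47_6).snoc part47_7

theorem seg48 : Seg P L 200704 200377 :=
  ((((((((seg47).snoc part48_0).snoc part48_1).snoc part48_2).snoc part48_3).snoc part48_4).snoc part48_5).snoc part48_6).snoc part48_7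

theorem seg49 : Seg P L 204800 204473 :=
  ((((((((seg48).snoc part49_0).snoc part49_1).snoc part49_2).snoc part49_3).snoc part49_4).snoc part49_5).snoc part49_6).snoc part49_7

theorem seg50 : Seg P L 208896 208569 :=
  ((((((((seg49).snoc part50_0).snoc part50_1).snoc part50_2).snoc part50_3).snoc part50_4).snoc part50_5).snoc part50_6).snoc part50_7

theorem seg51 : Seg P L 212992 212665 :=
  ((((((((seg50).snoc part51_0).snoc part51_1).snoc part51_2).snoc part51_3).snoc part51_4).snoc part51_5).snoc part51_6).snoc part51_7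

theorem seg52 : Seg P L 217088 216761 :=
  ((((((((seg51).snoc part52_0).snoc part52_1).snoc part52_2).snoc part52_3).snoc part52_4).snoc part52_5).snoc part52_6).snoc part52_7

theorem seg53 : Seg P L 221184 220857 :=
  ((((((((seg52).snoc part53_0).snoc part53_1).snoc part53_2).snoc part53_3).snoc part53_4).snoc part53_5).snoc part53_6).snoc part53_7

theorem seg54 : Seg P L 225280 224953 :=
  ((((((((seg53).snoc part54_0).snoc part54_1).snoc part54_2).snoc part54_3).snoc part54_4).snoc part54_5).snoc part54_6).snoc part54_7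

theorem seg55 : Seg P L 229376 229049 :=
  ((((((((seg54).snoc part55_0).snoc part55_1).snoc part55_2).snoc part55_3).snoc part55_4).snoc part55_5).snoc part55_6).snoc part55_7

theorem seg56 : Seg P L 233472 233145 :=
  ((((((((seg55).snoc part56_0).snoc part56_1).snoc part56_2).snoc part56_3).snoc part56_4).snoc part56_5).snoc part56_6).snoc part56_7

theorem seg57 : Seg P L 237568 237241 :=
  ((((((((seg56).snoc part57_0).snoc part57_1).snoc part57_2).snoc part57_3).snoc part57_4).snoc part57_5).snoc part57_6).snoc part57_7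

theorem seg58 : Seg P L 241664 241337 :=
  ((((((((seg57).snoc part58_0).snoc part58_1).snoc part58_2).snoc part58_3).snoc part58_4).snoc part58_5).snoc part58_6).snoc part58_7

theorem seg59 : Seg P L 245760 245433 :=
  ((((((((seg58).snoc part59_0).snoc part59_1).snoc part59_2).snoc part59_3).snoc part59_4).snoc part59_5).snoc part59_6).snoc part59_7

theorem seg60 : Seg P L 249856 249529 :=
  ((((((((seg59).snoc part60_0).snoc part60_1).snoc part60_2).snoc part60_3).snoc part60_4).snoc part60_5).snoc part60_6).snoc part60_7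

theorem seg61 : Seg P L 253952 253625 :=
  ((((((((seg60).snoc part61_0).snoc part61_1).snoc part61_2).snoc part61_3).snoc part61_4).snoc part61_5).snoc part61_6).snoc part61_7

theorem seg62 : Seg P L 258048 257721 :=
  ((((((((seg61).snoc part62_0).snoc part62_1).snoc part62_2).snoc part62_3).snoc part62_4).snoc part62_5).snoc part62_6).snoc part62_7

theorem seg63 : Seg P L 262144 261817 :=
  ((((((((seg62).snoc part63_0).snoc part63_1).snoc part63_2).snoc part63_3).snoc part63_4).snoc part63_5).snoc part63_6).snoc part63_7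

theorem seg64 : Seg P L 266240 265913 :=
  ((((((((seg63).snoc part64_0).snoc part64_1).snoc part64_2).snoc part64_3).snoc part64_4).snoc part64_5).snoc part64_6).snoc part64_7

theorem seg65 : Seg P L 270336 270009 :=
  ((((((((seg64).snoc part65_0).snoc part65_1).snoc part65_2).snoc part65_3).snoc part65_4).snoc part65_5).snoc part65_6).snoc part65_7

theorem seg66 : Seg P L 274432 274105 :=
  ((((((((seg65).snoc part66_0).snoc part66_1).snoc part66_2).snoc part66_3).snoc part66_4).snoc part66_5).snoc part66_6).snoc part66_7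

theorem seg67 : Seg P L 278528 278201 :=
  ((((((((seg66).snoc part67_0).snoc part67_1).snoc part67_2).snoc part67_3).snoc part67_4).snoc part67_5).snoc part67_6).snoc part67_7

theorem seg68 : Seg P L 282624 282297 :=
  ((((((((seg67).snoc part68_0).snoc part68_1).snoc part68_2).snoc part68_3).snoc part68_4).snoc part68_5).snoc part68_6).snoc part68_7

theorem seg69 : Seg P L 286720 286393 :=
  ((((((((seg68).snoc part69_0).snoc part69_1).snoc part69_2).snoc part69_3).snoc part69_4).snoc part69_5).snoc part69_6).snoc part69_7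

theorem seg70 : Seg P L 290816 290489 :=
  ((((((((seg69).snoc part70_0).snoc part70_1).snoc part70_2).snoc part70_3).snoc part70_4).snoc part70_5).snoc part70_6).snoc part70_7

theorem seg71 : Seg P L 294912 294585 :=
  ((((((((seg70).snoc part71_0).snoc part71_1).snoc part71_2).snoc part71_3).snoc part71_4).snoc part71_5).snoc part71_6).snoc part71_7

theorem seg72 : Seg P L 299008 298681 :=
  ((((((((seg71).snoc part72_0).snoc part72_1).snoc part72_2).snoc part72_3).snoc part72_4).snoc part72_5).snoc part72_6).snoc part72_7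

theorem seg73 : Seg P L 303104 302777 :=
  ((((((((seg72).snoc part73_0).snoc part73_1).snoc part73_2).snoc part73_3).snoc part73_4).snoc part73_5).snoc part73_6).snoc part73_7

theorem seg74 : Seg P L 307200 306873 :=
  ((((((((seg73).snoc part74_0).snoc part74_1).snoc part74_2).snoc part74_3).snoc part74_4).snoc part74_5).snoc part74_6).snoc part74_7

theorem seg75 : Seg P L 307263 306936 :=
  (seg74).snoc part75_0

theorem seg : Seg P L P.m 306936 := seg75

theorem cert : Cert 12 iv RL subs 306936 := fun g H hl hrels hsubs =>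
  upper g H 12 iv hl (RL.map expand) subs hrels hsubs P L rfl st seg

end Cfsg.Agent.CosetEnum.Fi24F12
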