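import Cfsg.Agent.CosetEnum.Fi24.F12DataT0
import Cfsg.Agent.CosetEnum.Fi24.F12DataT1
import Cfsg.Agent.CosetEnum.Fi24.F12DataT2
import Cfsg.Agent.CosetEnum.Fi24.F12DataT3
import Cfsg.Agent.CosetEnum.Fi24.F12DataT4
import Cfsg.Agent.CosetEnum.Fi24.F12DataT5
import Cfsg.Agent.CosetEnum.Fi24.F12DataT6
import Cfsg.Agent.CosetEnum.Fi24.F12DataT7
import Cfsg.Agent.CosetEnum.Fi24.F12DataT8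
import Cfsg.Agent.CosetEnum.Fi24.F12DataT9
import Cfsg.Agent.CosetEnum.Fi24.F12DataT10
import Cfsg.Agent.CosetEnum.Fi24.F12DataT11
import Cfsg.Agent.CosetEnum.Fi24.F12DataT12

/-! Certificate of a coset enumeration (generated data, owner: helper28). -/

set_option autoImplicit false
set_option maxRecDepth 1000000

namespace Cfsg.Agent.CosetEnum.Fi24F12

noncomputable def tab : T := .n 146688 (.n 73344 (.n 24448 (t0) (.n 48896 (t1) (t2))) (.n 97792 (t3) (.n 122240 (t4) (t5)))) (.n 220032 (.n 171136 (t6) (.n 195584 (t7) (t8))) (.n 268928 (.n 244480 (t9) (t10)) (.n 293376 (t11) (t12))))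

def lw : WT := .n 20 (.n 10 (.n 5 (.n 2 (.n 1 (.l [12,3,12,3] []) (.l [3,4,3,4] [])) (.n 3 (.l [2,5,3,2,6,1,2,7,4,2,5,3,2,6,1,2,7,4,2,5,3,2,6,1,2,7,4,2,5,3,2,6,1,2,7,4,2,5,3,2,6,1,2,7,4,2,5,3,2,6,1,2,7,4,2,5,3,2,6,1,2,7,4,2,5,3,2,6,1,2,7,4,2,5,3,2,6,1,2,7,4,2,5,3,2,6,1,2,7,4] []) (.n 4 (.l [7,12,7,12] []) (.l [7,11,7,11] [])))) (.n 7 (.n 6 (.l [7,9,7,9] []) (.l [4,1,4,1] [])) (.n 8 (.l [4,6,4,6] []) (.n 9 (.l [12,4,12,4] []) (.l [11,1,11,1] []))))) (.n 15 (.n 12 (.n 11 (.l [9,1,9,1] []) (.l [12,1,12,1] [])) (.n 13 (.l [9,2,9,2] []) (.n 14 (.l [1,3,1,3] []) (.l [1,5,1,5] [])))) (.n 17 (.n 16 (.l [7,6,7,6] []) (.l [1,2,1,2,1,2] [])) (.n 18 (.l [6,4,6,4] []) (.n 19 (.l [4,7,2,1,6,2,3,5,2,4,7,2,1,6,2,3,5,2,4,7,2,1,6,2,3,5,2,4,7,2,1,6,2,3,5,2,4,7,2,1,6,2,3,5,2,4,7,2,1,6,2,3,5,2,4,7,2,1,6,2,3,5,2,4,7,2,1,6,2,3,5,2,4,7,2,1,6,2,3,5,2,4,7,2,1,6,2,3,5,2]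 []) (.l [8,1,8,1] [])))))) (.n 30 (.n 25 (.n 22 (.n 21 (.l [4,2,4,2,4,2] []) (.l [2,4,2,4,2,4] [])) (.n 23 (.l [1,4,1,4] []) (.n 24 (.l [6,9,4,5,3,2,1,6,9,4,5,3,2,1,6,9,4,5,3,2,1,6,9,4,5,3,2,1,6,9,4,5,3,2,1,6,9,4,5,3,2,1,6,9,4,5,3,2,1,6,9,4,5,3,2,1,6,9,11,4,5,3,2,1] []) (.l [12,6,12,6] [])))) (.n 27 (.n 26 (.l [5,1,5,1] []) (.l [8,6,8,6] [])) (.n 28 (.l [5,6,5,6] []) (.n 29 (.l [3,1,3,1] []) (.l [11,3,11,3] []))))) (.n 35 (.n 32 (.n 31 (.l [10,3,10,3] []) (.l [8,3,8,3] [])) (.n 33 (.l [2,6,2,6] []) (.n 34 (.l [4,3,4,3] []) (.l [7,8,7,8] [])))) (.n 37 (.n 36 (.l [5,4,5,4] []) (.l [2,8,2,8] [])) (.n 38 (.l [1,8,1,8] []) (.n 39 (.l [6,8,6,8] []) (.l [7,3,7,3] []))))))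

def L : LL := .cons 1 1 (.n 6 (.n 3 (.n 1 (.l [12,1,12] []) (.n 2 (.l [9,1,9] []) (.l [11,1,11] []))) (.n 4 (.l [2,1,2,1,2] []) (.n 5 (.l [3,1,3] []) (.l [4,1,4] [])))) (.n 9 (.n 7 (.l [5,1,5] []) (.n 8 (.l [7,1,7] []) (.l [8,1,8] []))) (.n 11 (.n 10 (.l [6,1,6,1,6] []) (.l [10,1,10] [])) (.n 12 (.l [6,2,3,5,2,4,7,2,1,6,2,3,5,2,4,7,2,1,6,2,3,5,2,4,7,2,1,6,2,3,5,2,4,7,2,1,6,2,3,5,2,4,7,2,1,6,2,3,5,2,4,7,2,1,6,2,3,5,2,4,7,2,1,6,2,3,5,2,4,7,2,1,6,2,3,5,2,4,7,2,1,6,2,3,5,2,4,7,2] []) (.l [2,7,4,2,10,8,5,3,2,11,12,9,6,1,2,7,4,2,10,8,5,3,2,11,12,9,6,1,2,7,4,2,10,8,5,3,2,11,12,9,6,1,2,7,4,2,10,8,5,3,2,11,12,9,6,1,2,7,4,2,10,8,5,3,2,11,12,9,6,1,2,7,4,2,10,8,5,3,2,11,12,9,6,1,2,7,4,2,10,8,5,3,2,11,12,9,6,1,2,7,4,2,10,8,5,3,2,11,12,9,6,1,2,7,4,2,10,8,5,3,2,11,12,9,6,1,2,7,4,2,10,8,5,3,2,11,12,9,6,1,2,7,4,2,10,8,5,3,2,11,12,9,6,1,2,7,4,2,10,8,5,3,2,11,12,9,6,1,2,7,4,2,10,8,5,3,2,11,12,9,6,1,2,7,4,2,10,8,5,3,2,11,12,9,6,1,2,7,4,2,10,8,5,3,2,11,12,9,6,1,2,7,4,2,10,8,5,3,2,11,12,9,6,1,2,7,4,2,10,8,5,3,2,11,12,9,6]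 []))))) (.l [] []) ( .cons 2 2 (.n 6 (.n 3 (.n 1 (.l [12,2,12] []) (.n 2 (.l [9,2,9] []) (.l [11,2,11] []))) (.n 4 (.l [6,2,6] []) (.n 5 (.l [3,2,3,2,3] []) (.l [4,2,4,2,4] [])))) (.n 9 (.n 7 (.l [5,2,5] []) (.n 8 (.l [7,2,7] []) (.l [8,2,8] []))) (.n 11 (.n 10 (.l [1,2,1,2,1] []) (.l [10,2,10] [])) (.n 12 (.l [3,5,4,11,9,6,1,2,3,5,4,9,6,1,2,3,5,4,9,6,1,2,3,5,4,9,6,1,2,3,5,4,9,6,1,2,3,5,4,9,6,1,2,3,5,4,9,6,1,2,3,5,4,9,6,1,2,3,5,4,9,6,1] []) (.l [1,6,9,11,4,5,3,2,1,6,9,4,5,3,2,1,6,9,4,5,3,2,1,6,9,4,5,3,2,1,6,9,4,5,3,2,1,6,9,4,5,3,2,1,6,9,4,5,3,2,1,6,9,4,5,3,2,1,6,9,4,5,3] []))))) (.l [] []) ( .cons 3 3 (.n 6 (.n 3 (.n 1 (.l [12,3,12] []) (.n 2 (.l [9,3,9] []) (.l [11,3,11] []))) (.n 4 (.l [6,3,6] []) (.n 5 (.l [1,3,1] []) (.l [4,3,4] [])))) (.n 9 (.n 7 (.l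 [5,3,5,3,5] []) (.n 8 (.l [7,3,7] []) (.l [2,3,2,3,2] []))) (.n 10 (.l [8,3,8] []) (.n 11 (.l [10,3,10] []) (.l [2,6,1,2,7,4,2,5,3,2,6,1,2,7,4,2,5,3,2,6,1,2,7,4,2,5,3,2,6,1,2,7,4,2,5,3,2,6,1,2,7,4,2,5,3,2,6,1,2,7,4,2,5,3,2,6,1,2,7,4,2,5,3,2,6,1,2,7,4,2,5,3,2,6,1,2,7,4,2,5,3,2,6,1,2,7,4,2,5] []))))) (.l [] []) ( .cons 4 4 (.n 5 (.n 2 (.n 1 (.l [12,4,12] []) (.l [9,4,9] [])) (.n 3 (.l [11,4,11] []) (.n 4 (.l [6,4,6] []) (.l [1,4,1] [])))) (.n 8 (.n 6 (.l [5,4,5] []) (.n 7 (.l [3,4,3] []) (.l [7,4,7,4,7] []))) (.n 9 (.l [2,4,2,4,2] []) (.n 10 (.l [8,4,8] []) (.l [10,4,10] []))))) (.l [] []) ( .cons 5 5 (.n 5 (.n 2 (.n 1 (.l [12,5,12] []) (.l [9,5,9] [])) (.n 3 (.l [11,5,11] []) (.n 4 (.l [6,5,6] []) (.l [1,5,1] [])))) (.n 8 (.n 6 (.l [2,5,2] []) (.n 7 (.l [4,5,4]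 []) (.l [7,5,7] []))) (.n 9 (.l [8,5,8,5,8] []) (.n 10 (.l [10,5,10] []) (.l [3,5,3,5,3] []))))) (.l [] []) ( .cons 6 6 (.n 6 (.n 3 (.n 1 (.l [12,6,12] []) (.n 2 (.l [11,6,11] []) (.l [1,6,1,6,1] []))) (.n 4 (.l [2,6,2] []) (.n 5 (.l [3,6,3] []) (.l [4,6,4] [])))) (.n 9 (.n 7 (.l [9,6,9,6,9] []) (.n 8 (.l [5,6,5] []) (.l [7,6,7] []))) (.n 10 (.l [8,6,8] []) (.n 11 (.l [10,6,10] []) (.l [1,2,7,4,2,5,3,2,6,1,2,7,4,2,5,3,2,6,1,2,7,4,2,5,3,2,6,1,2,7,4,2,5,3,2,6,1,2,7,4,2,5,3,2,6,1,2,7,4,2,5,3,2,6,1,2,7,4,2,5,3,2,6,1,2,7,4,2,5,3,2,6,1,2,7,4,2,5,3,2,6,1,2,7,4,2,5,3,2] []))))) (.l [] []) ( .cons 7 7 (.n 5 (.n 2 (.n 1 (.l [12,7,12] []) (.l [9,7,9] [])) (.n 3 (.l [11,7,11] []) (.n 4 (.l [6,7,6] []) (.l [1,7,1] [])))) (.n 8 (.n 6 (.l [2,7,2] []) (.n 7 (.l [3,7,3]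 []) (.l [5,7,5] []))) (.n 9 (.l [8,7,8] []) (.n 10 (.l [10,7,10] []) (.l [4,7,4,7,4] []))))) (.l [] []) ( .cons 8 8 (.n 5 (.n 2 (.n 1 (.l [12,8,12] []) (.l [9,8,9] [])) (.n 3 (.l [11,8,11] []) (.n 4 (.l [6,8,6] []) (.l [1,8,1] [])))) (.n 8 (.n 6 (.l [2,8,2] []) (.n 7 (.l [3,8,3] []) (.l [4,8,4] []))) (.n 9 (.l [7,8,7] []) (.n 10 (.l [10,8,10,8,10] []) (.l [5,8,5,8,5] []))))) (.l [] []) ( .cons 9 9 (.n 5 (.n 2 (.n 1 (.l [11,9,11] []) (.l [6,9,6,9,6] [])) (.n 3 (.l [1,9,1] []) (.n 4 (.l [12,9,12,9,12] []) (.l [2,9,2] [])))) (.n 8 (.n 6 (.l [3,9,3] []) (.n 7 (.l [4,9,4] []) (.l [5,9,5] []))) (.n 9 (.l [7,9,7] []) (.n 10 (.l [8,9,8] []) (.l [10,9,10] []))))) (.l [] []) ( .cons 10 10 (.n 5 (.n 2 (.n 1 (.l [12,10,12] []) (.l [9,10,9] [])) (.n 3 (.l [11,10,11]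 []) (.n 4 (.l [6,10,6] []) (.l [1,10,1] [])))) (.n 8 (.n 6 (.l [2,10,2] []) (.n 7 (.l [3,10,3] []) (.l [4,10,4] []))) (.n 9 (.l [5,10,5] []) (.n 10 (.l [7,10,7] []) (.l [8,10,8,10,8] []))))) (.l [] []) ( .cons 11 11 (.n 5 (.n 2 (.n 1 (.l [12,11,12,11,12] []) (.l [6,11,6] [])) (.n 3 (.l [1,11,1] []) (.n 4 (.l [9,11,9] []) (.l [2,11,2] [])))) (.n 8 (.n 6 (.l [3,11,3] []) (.n 7 (.l [4,11,4] []) (.l [5,11,5] []))) (.n 9 (.l [7,11,7] []) (.n 10 (.l [8,11,8] []) (.l [10,11,10] []))))) (.l [] []) ( .cons 12 12 (.n 5 (.n 2 (.n 1 (.l [9,12,9,12,9] []) (.l [11,12,11,12,11] [])) (.n 3 (.l [6,12,6] []) (.n 4 (.l [1,12,1] []) (.l [2,12,2] [])))) (.n 8 (.n 6 (.l [3,12,3] []) (.n 7 (.l [4,12,4] []) (.l [5,12,5] []))) (.n 9 (.l [7,12,7] []) (.n 10 (.l [8,12,8] []) (.l [10,12,10]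 []))))) (.e) ( .nil ))))))))))))

def iv : List (Nat × Nat) := []

def RL : List (List Nat × Nat) := [([1, 2], 3), ([1, 3], 2), ([1, 4], 2), ([1, 5], 2), ([1, 6], 3), ([1, 7], 2), ([1, 8], 2), ([1, 9], 2), ([1, 10], 2), ([1, 11], 2), ([1, 12], 2), ([2, 3], 3), ([2, 4], 3), ([2, 5], 2), ([2, 6], 2), ([2, 7], 2), ([2, 8], 2), ([2, 9], 2), ([2, 10], 2), ([2, 11], 2), ([2, 12], 2), ([3, 4], 2), ([3, 5], 3), ([3, 6], 2), ([3, 7], 2), ([3, 8], 2), ([3, 9], 2), ([3, 10], 2), ([3, 11], 2), ([3, 12], 2), ([4, 5], 2), ([4, 6], 2), ([4, 7], 3), ([4, 8], 2), ([4, 9], 2), ([4, 10], 2), ([4, 11], 2), ([4, 12], 2), ([5, 6], 2), ([5, 7], 2), ([5, 8], 3), ([5, 9], 2), ([5, 10], 2), ([5, 11], 2), ([5, 12], 2), ([6, 7], 2), ([6, 8], 2), ([6, 9], 3), ([6, 10], 2), ([6, 11],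 2), ([6, 12], 2), ([7, 8], 2), ([7, 9], 2), ([7, 10], 2), ([7, 11], 2), ([7, 12], 2), ([8, 9], 2), ([8, 10], 3), ([8, 11], 2), ([8, 12], 2), ([9, 10], 2), ([9, 11], 2), ([9, 12], 3), ([10, 11], 2), ([10, 12], 2), ([11, 12], 3), ([11, 9, 6, 1, 2, 3, 5, 4, 9, 6, 1, 2, 3, 5, 4, 9, 6, 1, 2, 3, 5, 4, 9, 6, 1, 2, 3, 5, 4, 9, 6, 1, 2, 3, 5, 4, 9, 6, 1, 2, 3, 5, 4, 9, 6, 1, 2, 3, 5, 4, 9, 6, 1, 2, 3, 5, 4, 9, 6, 1, 2, 3, 5, 4], 1), ([2, 1, 6, 9, 12, 11, 2, 3, 5, 8, 10, 2, 4, 7], 17), ([2, 1, 6, 2, 3, 5, 2, 4, 7], 10)]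

def subs : List (List Nat) := [[1], [2], [3], [4], [5], [6], [7], [8], [9], [10], [11]]

noncomputable def P : Par := ⟨tab, 572, 15458150092069033378781407563727949377195709318825739994628941005806076569158241698144775066327690311849854464126008708709460314644171950622971634693868322994787923259293695, 307263, icG 12 iv, lw⟩

end Cfsg.Agent.CosetEnum.Fi24F12
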