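import Cfsg.Agent.CosetEnum.FastSound
import Cfsg.Agent.CosetEnum.Fi24.T12R0
import Cfsg.Agent.CosetEnum.Fi24.T12R1
import Cfsg.Agent.CosetEnum.Fi24.T12R2
import Cfsg.Agent.CosetEnum.Fi24.T12R3
import Cfsg.Agent.CosetEnum.Fi24.T12R4
import Cfsg.Agent.CosetEnum.Fi24.T12R5
import Cfsg.Agent.CosetEnum.Fi24.T12R6
import Cfsg.Agent.CosetEnum.Fi24.T12R7
import Cfsg.Agent.CosetEnum.Fi24.T12R8
import Cfsg.Agent.CosetEnum.Fi24.T12R9
import Cfsg.Agent.CosetEnum.Fi24.T12R10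
import Cfsg.Agent.CosetEnum.Fi24.T12R11
import Cfsg.Agent.CosetEnum.Fi24.T12R12
import Cfsg.Agent.CosetEnum.Fi24.T12R13
import Cfsg.Agent.CosetEnum.Fi24.T12R14
import Cfsg.Agent.CosetEnum.Fi24.T12R15
import Cfsg.Agent.CosetEnum.Fi24.T12R16
import Cfsg.Agent.CosetEnum.Fi24.T12R17
import Cfsg.Agent.CosetEnum.Fi24.T12R18
import Cfsg.Agent.CosetEnum.Fi24.T12R19
import Cfsg.Agent.CosetEnum.Fi24.T12R20
import Cfsg.Agent.CosetEnum.Fi24.T12R21
import Cfsg.Agent.CosetEnum.Fi24.T12R22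
import Cfsg.Agent.CosetEnum.Fi24.T12R23
import Cfsg.Agent.CosetEnum.Fi24.T12R24
import Cfsg.Agent.CosetEnum.Fi24.T12R25
import Cfsg.Agent.CosetEnum.Fi24.T12R26
import Cfsg.Agent.CosetEnum.Fi24.T12R27
import Cfsg.Agent.CosetEnum.Fi24.T12R28
import Cfsg.Agent.CosetEnum.Fi24.T12R29
import Cfsg.Agent.CosetEnum.Fi24.T12R30
import Cfsg.Agent.CosetEnum.Fi24.T12R31
import Cfsg.Agent.CosetEnum.Fi24.T12R32
import Cfsg.Agent.CosetEnum.Fi24.T12R33
import Cfsg.Agent.CosetEnum.Fi24.T12R34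
import Cfsg.Agent.CosetEnum.Fi24.T12R35
import Cfsg.Agent.CosetEnum.Fi24.T12R36
import Cfsg.Agent.CosetEnum.Fi24.T12R37
import Cfsg.Agent.CosetEnum.Fi24.T12R38
import Cfsg.Agent.CosetEnum.Fi24.T12R39
import Cfsg.Agent.CosetEnum.Fi24.T12R40
import Cfsg.Agent.CosetEnum.Fi24.T12R41
import Cfsg.Agent.CosetEnum.Fi24.T12R42
import Cfsg.Agent.CosetEnum.Fi24.T12R43
import Cfsg.Agent.CosetEnum.Fi24.T12R44
import Cfsg.Agent.CosetEnum.Fi24.T12R45
import Cfsg.Agent.CosetEnum.Fi24.T12R46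
import Cfsg.Agent.CosetEnum.Fi24.T12R47
import Cfsg.Agent.CosetEnum.Fi24.T12R48
import Cfsg.Agent.CosetEnum.Fi24.T12R49
import Cfsg.Agent.CosetEnum.Fi24.T12R50
import Cfsg.Agent.CosetEnum.Fi24.T12R51
import Cfsg.Agent.CosetEnum.Fi24.T12R52
import Cfsg.Agent.CosetEnum.Fi24.T12R53
import Cfsg.Agent.CosetEnum.Fi24.T12R54
import Cfsg.Agent.CosetEnum.Fi24.T12R55
import Cfsg.Agent.CosetEnum.Fi24.T12R56
import Cfsg.Agent.CosetEnum.Fi24.T12R57
import Cfsg.Agent.CosetEnum.Fi24.T12R58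
import Cfsg.Agent.CosetEnum.Fi24.T12R59
import Cfsg.Agent.CosetEnum.Fi24.T12R60
import Cfsg.Agent.CosetEnum.Fi24.T12R61
import Cfsg.Agent.CosetEnum.Fi24.T12R62
import Cfsg.Agent.CosetEnum.Fi24.T12R63
import Cfsg.Agent.CosetEnum.Fi24.T12R64
import Cfsg.Agent.CosetEnum.Fi24.T12R65
import Cfsg.Agent.CosetEnum.Fi24.T12R66
import Cfsg.Agent.CosetEnum.Fi24.T12R67
import Cfsg.Agent.CosetEnum.Fi24.T12R68
import Cfsg.Agent.CosetEnum.Fi24.T12R69
import Cfsg.Agent.CosetEnum.Fi24.T12R70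
import Cfsg.Agent.CosetEnum.Fi24.T12R71
import Cfsg.Agent.CosetEnum.Fi24.T12R72
import Cfsg.Agent.CosetEnum.Fi24.T12R73
import Cfsg.Agent.CosetEnum.Fi24.T12R74
import Cfsg.Agent.CosetEnum.Fi24.T12R75
import Cfsg.Agent.CosetEnum.Fi24.T12R76
import Cfsg.Agent.CosetEnum.Fi24.T12H0
import Cfsg.Agent.CosetEnum.Fi24.T12H1
import Cfsg.Agent.CosetEnum.Fi24.T12H2
import Cfsg.Agent.CosetEnum.Fi24.T12H3
import Cfsg.Agent.CosetEnum.Fi24.T12H4
import Cfsg.Agent.CosetEnum.Fi24.T12H5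
import Cfsg.Agent.CosetEnum.Fi24.T12H6
import Cfsg.Agent.CosetEnum.Fi24.T12H7
import Cfsg.Agent.CosetEnum.Fi24.T12H8
import Cfsg.Agent.CosetEnum.Fi24.T12H9
import Cfsg.Agent.CosetEnum.Fi24.T12H10
import Cfsg.Agent.CosetEnum.Fi24.T12H11
import Cfsg.Agent.CosetEnum.Fi24.T12H12
import Cfsg.Agent.CosetEnum.Fi24.T12H13
import Cfsg.Agent.CosetEnum.Fi24.T12H14
import Cfsg.Agent.CosetEnum.Fi24.T12H15
import Cfsg.Agent.CosetEnum.Fi24.T12H16
import Cfsg.Agent.CosetEnum.Fi24.T12H17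
import Cfsg.Agent.CosetEnum.Fi24.T12H18

/-! Permutation table (generated data, owner: helper28). -/

set_option autoImplicit false
set_option maxRecDepth 1000000

namespace Cfsg.Agent.CosetEnum.Fi24T12

theorem st : letsB 12 [] lets RL = true := by decide +kernel

theorem sk : subB 11 [] letsk = true := by decide +kernel

theorem fs : fastSt lets prs zs eqs RL = true := by decide +kernel

theorem cr0 : Cov (fastI P lets prs zs eqs) 0 4000 := ((((((((Cov.of r0_0 rfl).trans (Cov.of r0_1 rfl)).trans (Cov.of r0_2 rfl)).trans (Cov.of r0_3 rfl)).trans (Cov.of r0_4 rfl)).trans (Cov.of r0_5 rfl)).trans (Cov.of r0_6 rfl)).trans (Cov.of r0_7 rfl))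

theorem cr1 : Cov (fastI P lets prs zs eqs) 4000 8000 := ((((((((Cov.of r1_0 rfl).trans (Cov.of r1_1 rfl)).trans (Cov.of r1_2 rfl)).trans (Cov.of r1_3 rfl)).trans (Cov.of r1_4 rfl)).trans (Cov.of r1_5 rfl)).trans (Cov.of r1_6 rfl)).trans (Cov.of r1_7 rfl))

theorem cr2 : Cov (fastI P lets prs zs eqs) 8000 12000 := ((((((((Cov.of r2_0 rfl).trans (Cov.of r2_1 rfl)).trans (Cov.of r2_2 rfl)).trans (Cov.of r2_3 rfl)).trans (Cov.of r2_4 rfl)).trans (Cov.of r2_5 rfl)).trans (Cov.of r2_6 rfl)).trans (Cov.of r2_7 rfl))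

theorem cr3 : Cov (fastI P lets prs zs eqs) 12000 16000 := ((((((((Cov.of r3_0 rfl).trans (Cov.of r3_1 rfl)).trans (Cov.of r3_2 rfl)).trans (Cov.of r3_3 rfl)).trans (Cov.of r3_4 rfl)).trans (Cov.of r3_5 rfl)).trans (Cov.of r3_6 rfl)).trans (Cov.of r3_7 rfl))

theorem cr4 : Cov (fastI P lets prs zs eqs) 16000 20000 := ((((((((Cov.of r4_0 rfl).trans (Cov.of r4_1 rfl)).trans (Cov.of r4_2 rfl)).trans (Cov.of r4_3 rfl)).trans (Cov.of r4_4 rfl)).trans (Cov.of r4_5 rfl)).trans (Cov.of r4_6 rfl)).trans (Cov.of r4_7 rfl))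

theorem cr5 : Cov (fastI P lets prs zs eqs) 20000 24000 := ((((((((Cov.of r5_0 rfl).trans (Cov.of r5_1 rfl)).trans (Cov.of r5_2 rfl)).trans (Cov.of r5_3 rfl)).trans (Cov.of r5_4 rfl)).trans (Cov.of r5_5 rfl)).trans (Cov.of r5_6 rfl)).trans (Cov.of r5_7 rfl))

theorem cr6 : Cov (fastI P lets prs zs eqs) 24000 28000 := ((((((((Cov.of r6_0 rfl).trans (Cov.of r6_1 rfl)).trans (Cov.of r6_2 rfl)).trans (Cov.of r6_3 rfl)).trans (Cov.of r6_4 rfl)).trans (Cov.of r6_5 rfl)).trans (Cov.of r6_6 rfl)).trans (Cov.of r6_7 rfl))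

theorem cr7 : Cov (fastI P lets prs zs eqs) 28000 32000 := ((((((((Cov.of r7_0 rfl).trans (Cov.of r7_1 rfl)).trans (Cov.of r7_2 rfl)).trans (Cov.of r7_3 rfl)).trans (Cov.of r7_4 rfl)).trans (Cov.of r7_5 rfl)).trans (Cov.of r7_6 rfl)).trans (Cov.of r7_7 rfl))

theorem cr8 : Cov (fastI P lets prs zs eqs) 32000 36000 := ((((((((Cov.of r8_0 rfl).trans (Cov.of r8_1 rfl)).trans (Cov.of r8_2 rfl)).trans (Cov.of r8_3 rfl)).trans (Cov.of r8_4 rfl)).trans (Cov.of r8_5 rfl)).trans (Cov.of r8_6 rfl)).trans (Cov.of r8_7 rfl))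

theorem cr9 : Cov (fastI P lets prs zs eqs) 36000 40000 := ((((((((Cov.of r9_0 rfl).trans (Cov.of r9_1 rfl)).trans (Cov.of r9_2 rfl)).trans (Cov.of r9_3 rfl)).trans (Cov.of r9_4 rfl)).trans (Cov.of r9_5 rfl)).trans (Cov.of r9_6 rfl)).trans (Cov.of r9_7 rfl))

theorem cr10 : Cov (fastI P lets prs zs eqs) 40000 44000 := ((((((((Cov.of r10_0 rfl).trans (Cov.of r10_1 rfl)).trans (Cov.of r10_2 rfl)).trans (Cov.of r10_3 rfl)).trans (Cov.of r10_4 rfl)).trans (Cov.of r10_5 rfl)).trans (Cov.of r10_6 rfl)).trans (Cov.of r10_7 rfl))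

theorem cr11 : Cov (fastI P lets prs zs eqs) 44000 48000 := ((((((((Cov.of r11_0 rfl).trans (Cov.of r11_1 rfl)).trans (Cov.of r11_2 rfl)).trans (Cov.of r11_3 rfl)).trans (Cov.of r11_4 rfl)).trans (Cov.of r11_5 rfl)).trans (Cov.of r11_6 rfl)).trans (Cov.of r11_7 rfl))

theorem cr12 : Cov (fastI P lets prs zs eqs) 48000 52000 := ((((((((Cov.of r12_0 rfl).trans (Cov.of r12_1 rfl)).trans (Cov.of r12_2 rfl)).trans (Cov.of r12_3 rfl)).trans (Cov.of r12_4 rfl)).trans (Cov.of r12_5 rfl)).trans (Cov.of r12_6 rfl)).trans (Cov.of r12_7 rfl))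

theorem cr13 : Cov (fastI P lets prs zs eqs) 52000 56000 := ((((((((Cov.of r13_0 rfl).trans (Cov.of r13_1 rfl)).trans (Cov.of r13_2 rfl)).trans (Cov.of r13_3 rfl)).trans (Cov.of r13_4 rfl)).trans (Cov.of r13_5 rfl)).trans (Cov.of r13_6 rfl)).trans (Cov.of r13_7 rfl))

theorem cr14 : Cov (fastI P lets prs zs eqs) 56000 60000 := ((((((((Cov.of r14_0 rfl).trans (Cov.of r14_1 rfl)).trans (Cov.of r14_2 rfl)).trans (Cov.of r14_3 rfl)).trans (Cov.of r14_4 rfl)).trans (Cov.of r14_5 rfl)).trans (Cov.of r14_6 rfl)).trans (Cov.of r14_7 rfl))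

theorem cr15 : Cov (fastI P lets prs zs eqs) 60000 64000 := ((((((((Cov.of r15_0 rfl).trans (Cov.of r15_1 rfl)).trans (Cov.of r15_2 rfl)).trans (Cov.of r15_3 rfl)).trans (Cov.of r15_4 rfl)).trans (Cov.of r15_5 rfl)).trans (Cov.of r15_6 rfl)).trans (Cov.of r15_7 rfl))

theorem cr16 : Cov (fastI P lets prs zs eqs) 64000 68000 := ((((((((Cov.of r16_0 rfl).trans (Cov.of r16_1 rfl)).trans (Cov.of r16_2 rfl)).trans (Cov.of r16_3 rfl)).trans (Cov.of r16_4 rfl)).trans (Cov.of r16_5 rfl)).trans (Cov.of r16_6 rfl)).trans (Cov.of r16_7 rfl))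

theorem cr17 : Cov (fastI P lets prs zs eqs) 68000 72000 := ((((((((Cov.of r17_0 rfl).trans (Cov.of r17_1 rfl)).trans (Cov.of r17_2 rfl)).trans (Cov.of r17_3 rfl)).trans (Cov.of r17_4 rfl)).trans (Cov.of r17_5 rfl)).trans (Cov.of r17_6 rfl)).trans (Cov.of r17_7 rfl))

theorem cr18 : Cov (fastI P lets prs zs eqs) 72000 76000 := ((((((((Cov.of r18_0 rfl).trans (Cov.of r18_1 rfl)).trans (Cov.of r18_2 rfl)).trans (Cov.of r18_3 rfl)).trans (Cov.of r18_4 rfl)).trans (Cov.of r18_5 rfl)).trans (Cov.of r18_6 rfl)).trans (Cov.of r18_7 rfl))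

theorem cr19 : Cov (fastI P lets prs zs eqs) 76000 80000 := ((((((((Cov.of r19_0 rfl).trans (Cov.of r19_1 rfl)).trans (Cov.of r19_2 rfl)).trans (Cov.of r19_3 rfl)).trans (Cov.of r19_4 rfl)).trans (Cov.of r19_5 rfl)).trans (Cov.of r19_6 rfl)).trans (Cov.of r19_7 rfl))

theorem cr20 : Cov (fastI P lets prs zs eqs) 80000 84000 := ((((((((Cov.of r20_0 rfl).trans (Cov.of r20_1 rfl)).trans (Cov.of r20_2 rfl)).trans (Cov.of r20_3 rfl)).trans (Cov.of r20_4 rfl)).trans (Cov.of r20_5 rfl)).trans (Cov.of r20_6 rfl)).trans (Cov.of r20_7 rfl))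

theorem cr21 : Cov (fastI P lets prs zs eqs) 84000 88000 := ((((((((Cov.of r21_0 rfl).trans (Cov.of r21_1 rfl)).trans (Cov.of r21_2 rfl)).trans (Cov.of r21_3 rfl)).trans (Cov.of r21_4 rfl)).trans (Cov.of r21_5 rfl)).trans (Cov.of r21_6 rfl)).trans (Cov.of r21_7 rfl))

theorem cr22 : Cov (fastI P lets prs zs eqs) 88000 92000 := ((((((((Cov.of r22_0 rfl).trans (Cov.of r22_1 rfl)).trans (Cov.of r22_2 rfl)).trans (Cov.of r22_3 rfl)).trans (Cov.of r22_4 rfl)).trans (Cov.of r22_5 rfl)).trans (Cov.of r22_6 rfl)).trans (Cov.of r22_7 rfl))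

theorem cr23 : Cov (fastI P lets prs zs eqs) 92000 96000 := ((((((((Cov.of r23_0 rfl).trans (Cov.of r23_1 rfl)).trans (Cov.of r23_2 rfl)).trans (Cov.of r23_3 rfl)).trans (Cov.of r23_4 rfl)).trans (Cov.of r23_5 rfl)).trans (Cov.of r23_6 rfl)).trans (Cov.of r23_7 rfl))

theorem cr24 : Cov (fastI P lets prs zs eqs) 96000 100000 := ((((((((Cov.of r24_0 rfl).trans (Cov.of r24_1 rfl)).trans (Cov.of r24_2 rfl)).trans (Cov.of r24_3 rfl)).trans (Cov.of r24_4 rfl)).trans (Cov.of r24_5 rfl)).trans (Cov.of r24_6 rfl)).trans (Cov.of r24_7 rfl))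

theorem cr25 : Cov (fastI P lets prs zs eqs) 100000 104000 := ((((((((Cov.of r25_0 rfl).trans (Cov.of r25_1 rfl)).trans (Cov.of r25_2 rfl)).trans (Cov.of r25_3 rfl)).trans (Cov.of r25_4 rfl)).trans (Cov.of r25_5 rfl)).trans (Cov.of r25_6 rfl)).trans (Cov.of r25_7 rfl))

theorem cr26 : Cov (fastI P lets prs zs eqs) 104000 108000 := ((((((((Cov.of r26_0 rfl).trans (Cov.of r26_1 rfl)).trans (Cov.of r26_2 rfl)).trans (Cov.of r26_3 rfl)).trans (Cov.of r26_4 rfl)).trans (Cov.of r26_5 rfl)).trans (Cov.of r26_6 rfl)).trans (Cov.of r26_7 rfl))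

theorem cr27 : Cov (fastI P lets prs zs eqs) 108000 112000 := ((((((((Cov.of r27_0 rfl).trans (Cov.of r27_1 rfl)).trans (Cov.of r27_2 rfl)).trans (Cov.of r27_3 rfl)).trans (Cov.of r27_4 rfl)).trans (Cov.of r27_5 rfl)).trans (Cov.of r27_6 rfl)).trans (Cov.of r27_7 rfl))

theorem cr28 : Cov (fastI P lets prs zs eqs) 112000 116000 := ((((((((Cov.of r28_0 rfl).trans (Cov.of r28_1 rfl)).trans (Cov.of r28_2 rfl)).trans (Cov.of r28_3 rfl)).trans (Cov.of r28_4 rfl)).trans (Cov.of r28_5 rfl)).trans (Cov.of r28_6 rfl)).trans (Cov.of r28_7 rfl))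

theorem cr29 : Cov (fastI P lets prs zs eqs) 116000 120000 := ((((((((Cov.of r29_0 rfl).trans (Cov.of r29_1 rfl)).trans (Cov.of r29_2 rfl)).trans (Cov.of r29_3 rfl)).trans (Cov.of r29_4 rfl)).trans (Cov.of r29_5 rfl)).trans (Cov.of r29_6 rfl)).trans (Cov.of r29_7 rfl))

theorem cr30 : Cov (fastI P lets prs zs eqs) 120000 124000 := ((((((((Cov.of r30_0 rfl).trans (Cov.of r30_1 rfl)).trans (Cov.of r30_2 rfl)).trans (Cov.of r30_3 rfl)).trans (Cov.of r30_4 rfl)).trans (Cov.of r30_5 rfl)).trans (Cov.of r30_6 rfl)).trans (Cov.of r30_7 rfl))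

theorem cr31 : Cov (fastI P lets prs zs eqs) 124000 128000 := ((((((((Cov.of r31_0 rfl).trans (Cov.of r31_1 rfl)).trans (Cov.of r31_2 rfl)).trans (Cov.of r31_3 rfl)).trans (Cov.of r31_4 rfl)).trans (Cov.of r31_5 rfl)).trans (Cov.of r31_6 rfl)).trans (Cov.of r31_7 rfl))

theorem cr32 : Cov (fastI P lets prs zs eqs) 128000 132000 := ((((((((Cov.of r32_0 rfl).trans (Cov.of r32_1 rfl)).trans (Cov.of r32_2 rfl)).trans (Cov.of r32_3 rfl)).trans (Cov.of r32_4 rfl)).trans (Cov.of r32_5 rfl)).trans (Cov.of r32_6 rfl)).trans (Cov.of r32_7 rfl))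

theorem cr33 : Cov (fastI P lets prs zs eqs) 132000 136000 := ((((((((Cov.of r33_0 rfl).trans (Cov.of r33_1 rfl)).trans (Cov.of r33_2 rfl)).trans (Cov.of r33_3 rfl)).trans (Cov.of r33_4 rfl)).trans (Cov.of r33_5 rfl)).trans (Cov.of r33_6 rfl)).trans (Cov.of r33_7 rfl))

theorem cr34 : Cov (fastI P lets prs zs eqs) 136000 140000 := ((((((((Cov.of r34_0 rfl).trans (Cov.of r34_1 rfl)).trans (Cov.of r34_2 rfl)).trans (Cov.of r34_3 rfl)).trans (Cov.of r34_4 rfl)).trans (Cov.of r34_5 rfl)).trans (Cov.of r34_6 rfl)).trans (Cov.of r34_7 rfl))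

theorem cr35 : Cov (fastI P lets prs zs eqs) 140000 144000 := ((((((((Cov.of r35_0 rfl).trans (Cov.of r35_1 rfl)).trans (Cov.of r35_2 rfl)).trans (Cov.of r35_3 rfl)).trans (Cov.of r35_4 rfl)).trans (Cov.of r35_5 rfl)).trans (Cov.of r35_6 rfl)).trans (Cov.of r35_7 rfl))

theorem cr36 : Cov (fastI P lets prs zs eqs) 144000 148000 := ((((((((Cov.of r36_0 rfl).trans (Cov.of r36_1 rfl)).trans (Cov.of r36_2 rfl)).trans (Cov.of r36_3 rfl)).trans (Cov.of r36_4 rfl)).trans (Cov.of r36_5 rfl)).trans (Cov.of r36_6 rfl)).trans (Cov.of r36_7 rfl))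

theorem cr37 : Cov (fastI P lets prs zs eqs) 148000 152000 := ((((((((Cov.of r37_0 rfl).trans (Cov.of r37_1 rfl)).trans (Cov.of r37_2 rfl)).trans (Cov.of r37_3 rfl)).trans (Cov.of r37_4 rfl)).trans (Cov.of r37_5 rfl)).trans (Cov.of r37_6 rfl)).trans (Cov.of r37_7 rfl))

theorem cr38 : Cov (fastI P lets prs zs eqs) 152000 156000 := ((((((((Cov.of r38_0 rfl).trans (Cov.of r38_1 rfl)).trans (Cov.of r38_2 rfl)).trans (Cov.of r38_3 rfl)).trans (Cov.of r38_4 rfl)).trans (Cov.of r38_5 rfl)).trans (Cov.of r38_6 rfl)).trans (Cov.of r38_7 rfl))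

theorem cr39 : Cov (fastI P lets prs zs eqs) 156000 160000 := ((((((((Cov.of r39_0 rfl).trans (Cov.of r39_1 rfl)).trans (Cov.of r39_2 rfl)).trans (Cov.of r39_3 rfl)).trans (Cov.of r39_4 rfl)).trans (Cov.of r39_5 rfl)).trans (Cov.of r39_6 rfl)).trans (Cov.of r39_7 rfl))

theorem cr40 : Cov (fastI P lets prs zs eqs) 160000 164000 := ((((((((Cov.of r40_0 rfl).trans (Cov.of r40_1 rfl)).trans (Cov.of r40_2 rfl)).trans (Cov.of r40_3 rfl)).trans (Cov.of r40_4 rfl)).trans (Cov.of r40_5 rfl)).trans (Cov.of r40_6 rfl)).trans (Cov.of r40_7 rfl))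

theorem cr41 : Cov (fastI P lets prs zs eqs) 164000 168000 := ((((((((Cov.of r41_0 rfl).trans (Cov.of r41_1 rfl)).trans (Cov.of r41_2 rfl)).trans (Cov.of r41_3 rfl)).trans (Cov.of r41_4 rfl)).trans (Cov.of r41_5 rfl)).trans (Cov.of r41_6 rfl)).trans (Cov.of r41_7 rfl))

theorem cr42 : Cov (fastI P lets prs zs eqs) 168000 172000 := ((((((((Cov.of r42_0 rfl).trans (Cov.of r42_1 rfl)).trans (Cov.of r42_2 rfl)).trans (Cov.of r42_3 rfl)).trans (Cov.of r42_4 rfl)).trans (Cov.of r42_5 rfl)).trans (Cov.of r42_6 rfl)).trans (Cov.of r42_7 rfl))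

theorem cr43 : Cov (fastI P lets prs zs eqs) 172000 176000 := ((((((((Cov.of r43_0 rfl).trans (Cov.of r43_1 rfl)).trans (Cov.of r43_2 rfl)).trans (Cov.of r43_3 rfl)).trans (Cov.of r43_4 rfl)).trans (Cov.of r43_5 rfl)).trans (Cov.of r43_6 rfl)).trans (Cov.of r43_7 rfl))

theorem cr44 : Cov (fastI P lets prs zs eqs) 176000 180000 := ((((((((Cov.of r44_0 rfl).trans (Cov.of r44_1 rfl)).trans (Cov.of r44_2 rfl)).trans (Cov.of r44_3 rfl)).trans (Cov.of r44_4 rfl)).trans (Cov.of r44_5 rfl)).trans (Cov.of r44_6 rfl)).trans (Cov.of r44_7 rfl))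

theorem cr45 : Cov (fastI P lets prs zs eqs) 180000 184000 := ((((((((Cov.of r45_0 rfl).trans (Cov.of r45_1 rfl)).trans (Cov.of r45_2 rfl)).trans (Cov.of r45_3 rfl)).trans (Cov.of r45_4 rfl)).trans (Cov.of r45_5 rfl)).trans (Cov.of r45_6 rfl)).trans (Cov.of r45_7 rfl))

theorem cr46 : Cov (fastI P lets prs zs eqs) 184000 188000 := ((((((((Cov.of r46_0 rfl).trans (Cov.of r46_1 rfl)).trans (Cov.of r46_2 rfl)).trans (Cov.of r46_3 rfl)).trans (Cov.of r46_4 rfl)).trans (Cov.of r46_5 rfl)).trans (Cov.of r46_6 rfl)).trans (Cov.of r46_7 rfl))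

theorem cr47 : Cov (fastI P lets prs zs eqs) 188000 192000 := ((((((((Cov.of r47_0 rfl).trans (Cov.of r47_1 rfl)).trans (Cov.of r47_2 rfl)).trans (Cov.of r47_3 rfl)).trans (Cov.of r47_4 rfl)).trans (Cov.of r47_5 rfl)).trans (Cov.of r47_6 rfl)).trans (Cov.of r47_7 rfl))

theorem cr48 : Cov (fastI P lets prs zs eqs) 192000 196000 := ((((((((Cov.of r48_0 rfl).trans (Cov.of r48_1 rfl)).trans (Cov.of r48_2 rfl)).trans (Cov.of r48_3 rfl)).trans (Cov.of r48_4 rfl)).trans (Cov.of r48_5 rfl)).trans (Cov.of r48_6 rfl)).trans (Cov.of r48_7 rfl))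

theorem cr49 : Cov (fastI P lets prs zs eqs) 196000 200000 := ((((((((Cov.of r49_0 rfl).trans (Cov.of r49_1 rfl)).trans (Cov.of r49_2 rfl)).trans (Cov.of r49_3 rfl)).trans (Cov.of r49_4 rfl)).trans (Cov.of r49_5 rfl)).trans (Cov.of r49_6 rfl)).trans (Cov.of r49_7 rfl))

theorem cr50 : Cov (fastI P lets prs zs eqs) 200000 204000 := ((((((((Cov.of r50_0 rfl).trans (Cov.of r50_1 rfl)).trans (Cov.of r50_2 rfl)).trans (Cov.of r50_3 rfl)).trans (Cov.of r50_4 rfl)).trans (Cov.of r50_5 rfl)).trans (Cov.of r50_6 rfl)).trans (Cov.of r50_7 rfl))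

theorem cr51 : Cov (fastI P lets prs zs eqs) 204000 208000 := ((((((((Cov.of r51_0 rfl).trans (Cov.of r51_1 rfl)).trans (Cov.of r51_2 rfl)).trans (Cov.of r51_3 rfl)).trans (Cov.of r51_4 rfl)).trans (Cov.of r51_5 rfl)).trans (Cov.of r51_6 rfl)).trans (Cov.of r51_7 rfl))

theorem cr52 : Cov (fastI P lets prs zs eqs) 208000 212000 := ((((((((Cov.of r52_0 rfl).trans (Cov.of r52_1 rfl)).trans (Cov.of r52_2 rfl)).trans (Cov.of r52_3 rfl)).trans (Cov.of r52_4 rfl)).trans (Cov.of r52_5 rfl)).trans (Cov.of r52_6 rfl)).trans (Cov.of r52_7 rfl))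

theorem cr53 : Cov (fastI P lets prs zs eqs) 212000 216000 := ((((((((Cov.of r53_0 rfl).trans (Cov.of r53_1 rfl)).trans (Cov.of r53_2 rfl)).trans (Cov.of r53_3 rfl)).trans (Cov.of r53_4 rfl)).trans (Cov.of r53_5 rfl)).trans (Cov.of r53_6 rfl)).trans (Cov.of r53_7 rfl))

theorem cr54 : Cov (fastI P lets prs zs eqs) 216000 220000 := ((((((((Cov.of r54_0 rfl).trans (Cov.of r54_1 rfl)).trans (Cov.of r54_2 rfl)).trans (Cov.of r54_3 rfl)).trans (Cov.of r54_4 rfl)).trans (Cov.of r54_5 rfl)).trans (Cov.of r54_6 rfl)).trans (Cov.of r54_7 rfl))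

theorem cr55 : Cov (fastI P lets prs zs eqs) 220000 224000 := ((((((((Cov.of r55_0 rfl).trans (Cov.of r55_1 rfl)).trans (Cov.of r55_2 rfl)).trans (Cov.of r55_3 rfl)).trans (Cov.of r55_4 rfl)).trans (Cov.of r55_5 rfl)).trans (Cov.of r55_6 rfl)).trans (Cov.of r55_7 rfl))

theorem cr56 : Cov (fastI P lets prs zs eqs) 224000 228000 := ((((((((Cov.of r56_0 rfl).trans (Cov.of r56_1 rfl)).trans (Cov.of r56_2 rfl)).trans (Cov.of r56_3 rfl)).trans (Cov.of r56_4 rfl)).trans (Cov.of r56_5 rfl)).trans (Cov.of r56_6 rfl)).trans (Cov.of r56_7 rfl))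

theorem cr57 : Cov (fastI P lets prs zs eqs) 228000 232000 := ((((((((Cov.of r57_0 rfl).trans (Cov.of r57_1 rfl)).trans (Cov.of r57_2 rfl)).trans (Cov.of r57_3 rfl)).trans (Cov.of r57_4 rfl)).trans (Cov.of r57_5 rfl)).trans (Cov.of r57_6 rfl)).trans (Cov.of r57_7 rfl))

theorem cr58 : Cov (fastI P lets prs zs eqs) 232000 236000 := ((((((((Cov.of r58_0 rfl).trans (Cov.of r58_1 rfl)).trans (Cov.of r58_2 rfl)).trans (Cov.of r58_3 rfl)).trans (Cov.of r58_4 rfl)).trans (Cov.of r58_5 rfl)).trans (Cov.of r58_6 rfl)).trans (Cov.of r58_7 rfl))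

theorem cr59 : Cov (fastI P lets prs zs eqs) 236000 240000 := ((((((((Cov.of r59_0 rfl).trans (Cov.of r59_1 rfl)).trans (Cov.of r59_2 rfl)).trans (Cov.of r59_3 rfl)).trans (Cov.of r59_4 rfl)).trans (Cov.of r59_5 rfl)).trans (Cov.of r59_6 rfl)).trans (Cov.of r59_7 rfl))

theorem cr60 : Cov (fastI P lets prs zs eqs) 240000 244000 := ((((((((Cov.of r60_0 rfl).trans (Cov.of r60_1 rfl)).trans (Cov.of r60_2 rfl)).trans (Cov.of r60_3 rfl)).trans (Cov.of r60_4 rfl)).trans (Cov.of r60_5 rfl)).trans (Cov.of r60_6 rfl)).trans (Cov.of r60_7 rfl))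

theorem cr61 : Cov (fastI P lets prs zs eqs) 244000 248000 := ((((((((Cov.of r61_0 rfl).trans (Cov.of r61_1 rfl)).trans (Cov.of r61_2 rfl)).trans (Cov.of r61_3 rfl)).trans (Cov.of r61_4 rfl)).trans (Cov.of r61_5 rfl)).trans (Cov.of r61_6 rfl)).trans (Cov.of r61_7 rfl))

theorem cr62 : Cov (fastI P lets prs zs eqs) 248000 252000 := ((((((((Cov.of r62_0 rfl).trans (Cov.of r62_1 rfl)).trans (Cov.of r62_2 rfl)).trans (Cov.of r62_3 rfl)).trans (Cov.of r62_4 rfl)).trans (Cov.of r62_5 rfl)).trans (Cov.of r62_6 rfl)).trans (Cov.of r62_7 rfl))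

theorem cr63 : Cov (fastI P lets prs zs eqs) 252000 256000 := ((((((((Cov.of r63_0 rfl).trans (Cov.of r63_1 rfl)).trans (Cov.of r63_2 rfl)).trans (Cov.of r63_3 rfl)).trans (Cov.of r63_4 rfl)).trans (Cov.of r63_5 rfl)).trans (Cov.of r63_6 rfl)).trans (Cov.of r63_7 rfl))

theorem cr64 : Cov (fastI P lets prs zs eqs) 256000 260000 := ((((((((Cov.of r64_0 rfl).trans (Cov.of r64_1 rfl)).trans (Cov.of r64_2 rfl)).trans (Cov.of r64_3 rfl)).trans (Cov.of r64_4 rfl)).trans (Cov.of r64_5 rfl)).trans (Cov.of r64_6 rfl)).trans (Cov.of r64_7 rfl))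

theorem cr65 : Cov (fastI P lets prs zs eqs) 260000 264000 := ((((((((Cov.of r65_0 rfl).trans (Cov.of r65_1 rfl)).trans (Cov.of r65_2 rfl)).trans (Cov.of r65_3 rfl)).trans (Cov.of r65_4 rfl)).trans (Cov.of r65_5 rfl)).trans (Cov.of r65_6 rfl)).trans (Cov.of r65_7 rfl))

theorem cr66 : Cov (fastI P lets prs zs eqs) 264000 268000 := ((((((((Cov.of r66_0 rfl).trans (Cov.of r66_1 rfl)).trans (Cov.of r66_2 rfl)).trans (Cov.of r66_3 rfl)).trans (Cov.of r66_4 rfl)).trans (Cov.of r66_5 rfl)).trans (Cov.of r66_6 rfl)).trans (Cov.of r66_7 rfl))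

theorem cr67 : Cov (fastI P lets prs zs eqs) 268000 272000 := ((((((((Cov.of r67_0 rfl).trans (Cov.of r67_1 rfl)).trans (Cov.of r67_2 rfl)).trans (Cov.of r67_3 rfl)).trans (Cov.of r67_4 rfl)).trans (Cov.of r67_5 rfl)).trans (Cov.of r67_6 rfl)).trans (Cov.of r67_7 rfl))

theorem cr68 : Cov (fastI P lets prs zs eqs) 272000 276000 := ((((((((Cov.of r68_0 rfl).trans (Cov.of r68_1 rfl)).trans (Cov.of r68_2 rfl)).trans (Cov.of r68_3 rfl)).trans (Cov.of r68_4 rfl)).trans (Cov.of r68_5 rfl)).trans (Cov.of r68_6 rfl)).trans (Cov.of r68_7 rfl))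

theorem cr69 : Cov (fastI P lets prs zs eqs) 276000 280000 := ((((((((Cov.of r69_0 rfl).trans (Cov.of r69_1 rfl)).trans (Cov.of r69_2 rfl)).trans (Cov.of r69_3 rfl)).trans (Cov.of r69_4 rfl)).trans (Cov.of r69_5 rfl)).trans (Cov.of r69_6 rfl)).trans (Cov.of r69_7 rfl))

theorem cr70 : Cov (fastI P lets prs zs eqs) 280000 284000 := ((((((((Cov.of r70_0 rfl).trans (Cov.of r70_1 rfl)).trans (Cov.of r70_2 rfl)).trans (Cov.of r70_3 rfl)).trans (Cov.of r70_4 rfl)).trans (Cov.of r70_5 rfl)).trans (Cov.of r70_6 rfl)).trans (Cov.of r70_7 rfl))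

theorem cr71 : Cov (fastI P lets prs zs eqs) 284000 288000 := ((((((((Cov.of r71_0 rfl).trans (Cov.of r71_1 rfl)).trans (Cov.of r71_2 rfl)).trans (Cov.of r71_3 rfl)).trans (Cov.of r71_4 rfl)).trans (Cov.of r71_5 rfl)).trans (Cov.of r71_6 rfl)).trans (Cov.of r71_7 rfl))

theorem cr72 : Cov (fastI P lets prs zs eqs) 288000 292000 := ((((((((Cov.of r72_0 rfl).trans (Cov.of r72_1 rfl)).trans (Cov.of r72_2 rfl)).trans (Cov.of r72_3 rfl)).trans (Cov.of r72_4 rfl)).trans (Cov.of r72_5 rfl)).trans (Cov.of r72_6 rfl)).trans (Cov.of r72_7 rfl))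

theorem cr73 : Cov (fastI P lets prs zs eqs) 292000 296000 := ((((((((Cov.of r73_0 rfl).trans (Cov.of r73_1 rfl)).trans (Cov.of r73_2 rfl)).trans (Cov.of r73_3 rfl)).trans (Cov.of r73_4 rfl)).trans (Cov.of r73_5 rfl)).trans (Cov.of r73_6 rfl)).trans (Cov.of r73_7 rfl))

theorem cr74 : Cov (fastI P lets prs zs eqs) 296000 300000 := ((((((((Cov.of r74_0 rfl).trans (Cov.of r74_1 rfl)).trans (Cov.of r74_2 rfl)).trans (Cov.of r74_3 rfl)).trans (Cov.of r74_4 rfl)).trans (Cov.of r74_5 rfl)).trans (Cov.of r74_6 rfl)).trans (Cov.of r74_7 rfl))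

theorem cr75 : Cov (fastI P lets prs zs eqs) 300000 304000 := ((((((((Cov.of r75_0 rfl).trans (Cov.of r75_1 rfl)).trans (Cov.of r75_2 rfl)).trans (Cov.of r75_3 rfl)).trans (Cov.of r75_4 rfl)).trans (Cov.of r75_5 rfl)).trans (Cov.of r75_6 rfl)).trans (Cov.of r75_7 rfl))

theorem cr76 : Cov (fastI P lets prs zs eqs) 304000 306936 := ((((((Cov.of r76_0 rfl).trans (Cov.of r76_1 rfl)).trans (Cov.of r76_2 rfl)).trans (Cov.of r76_3 rfl)).trans (Cov.of r76_4 rfl)).trans (Cov.of r76_5 rfl))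

theorem covF : Cov (fastI P lets prs zs eqs) 0 P.m := ((((((((((((((((((((((((((((((((((((((((((((((((((((((((((((((((((((((((((((cr0).trans cr1).trans cr2).trans cr3).trans cr4).trans cr5).trans cr6).trans cr7).trans cr8).trans cr9).trans cr10).trans cr11).trans cr12).trans cr13).trans cr14).trans cr15).trans cr16).trans cr17).trans cr18).trans cr19).trans cr20).trans cr21).trans cr22).trans cr23).trans cr24).trans cr25).trans cr26).trans cr27).trans cr28).trans cr29).trans cr30).trans cr31).trans cr32).trans cr33).trans cr34).trans cr35).trans cr36).trans cr37).trans cr38).trans cr39).trans cr40).trans cr41).trans cr42).trans cr43).trans cr44).trans cr45).trans cr46).trans cr47).trans cr48).trans cr49).trans cr50).trans cr51).trans cr52).trans cr53).trans cr54).trans cr55).trans cr56).trans cr57).trans cr58).trans cr59).trans cr60).trans cr61).trans cr62).trans cr63).trans cr64).trans cr65).trans cr66).trans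 cr67).trans cr68).trans cr69).trans cr70).trans cr71).trans cr72).trans cr73).trans cr74).trans cr75).trans cr76

theorem tabOK : TabOK P 12 [] lets RL := tabOK_fast st fs covF

theorem co0 : Cov (orbI P lets 0 306936) 0 4000 := ((Cov.of o0_0 rfl).trans (Cov.of o0_1 rfl))

theorem co1 : Cov (orbI P lets 0 306936) 4000 8000 := ((Cov.of o1_0 rfl).trans (Cov.of o1_1 rfl))

theorem co2 : Cov (orbI P lets 0 306936) 8000 12000 := ((Cov.of o2_0 rfl).trans (Cov.of o2_1 rfl))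

theorem co3 : Cov (orbI P lets 0 306936) 12000 16000 := ((Cov.of o3_0 rfl).trans (Cov.of o3_1 rfl))

theorem co4 : Cov (orbI P lets 0 306936) 16000 20000 := ((Cov.of o4_0 rfl).trans (Cov.of o4_1 rfl))

theorem co5 : Cov (orbI P lets 0 306936) 20000 24000 := ((Cov.of o5_0 rfl).trans (Cov.of o5_1 rfl))

theorem co6 : Cov (orbI P lets 0 306936) 24000 28000 := ((Cov.of o6_0 rfl).trans (Cov.of o6_1 rfl))

theorem co7 : Cov (orbI P lets 0 306936) 28000 32000 := ((Cov.of o7_0 rfl).trans (Cov.of o7_1 rfl))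

theorem co8 : Cov (orbI P lets 0 306936) 32000 36000 := ((Cov.of o8_0 rfl).trans (Cov.of o8_1 rfl))

theorem co9 : Cov (orbI P lets 0 306936) 36000 40000 := ((Cov.of o9_0 rfl).trans (Cov.of o9_1 rfl))

theorem co10 : Cov (orbI P lets 0 306936) 40000 44000 := ((Cov.of o10_0 rfl).trans (Cov.of o10_1 rfl))

theorem co11 : Cov (orbI P lets 0 306936) 44000 48000 := ((Cov.of o11_0 rfl).trans (Cov.of o11_1 rfl))

theorem co12 : Cov (orbI P lets 0 306936) 48000 52000 := ((Cov.of o12_0 rfl).trans (Cov.of o12_1 rfl))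

theorem co13 : Cov (orbI P lets 0 306936) 52000 56000 := ((Cov.of o13_0 rfl).trans (Cov.of o13_1 rfl))

theorem co14 : Cov (orbI P lets 0 306936) 56000 60000 := ((Cov.of o14_0 rfl).trans (Cov.of o14_1 rfl))

theorem co15 : Cov (orbI P lets 0 306936) 60000 64000 := ((Cov.of o15_0 rfl).trans (Cov.of o15_1 rfl))

theorem co16 : Cov (orbI P lets 0 306936) 64000 68000 := ((Cov.of o16_0 rfl).trans (Cov.of o16_1 rfl))

theorem co17 : Cov (orbI P lets 0 306936) 68000 72000 := ((Cov.of o17_0 rfl).trans (Cov.of o17_1 rfl))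

theorem co18 : Cov (orbI P lets 0 306936) 72000 76000 := ((Cov.of o18_0 rfl).trans (Cov.of o18_1 rfl))

theorem co19 : Cov (orbI P lets 0 306936) 76000 80000 := ((Cov.of o19_0 rfl).trans (Cov.of o19_1 rfl))

theorem co20 : Cov (orbI P lets 0 306936) 80000 84000 := ((Cov.of o20_0 rfl).trans (Cov.of o20_1 rfl))

theorem co21 : Cov (orbI P lets 0 306936) 84000 88000 := ((Cov.of o21_0 rfl).trans (Cov.of o21_1 rfl))

theorem co22 : Cov (orbI P lets 0 306936) 88000 92000 := ((Cov.of o22_0 rfl).trans (Cov.of o22_1 rfl))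

theorem co23 : Cov (orbI P lets 0 306936) 92000 96000 := ((Cov.of o23_0 rfl).trans (Cov.of o23_1 rfl))

theorem co24 : Cov (orbI P lets 0 306936) 96000 100000 := ((Cov.of o24_0 rfl).trans (Cov.of o24_1 rfl))

theorem co25 : Cov (orbI P lets 0 306936) 100000 104000 := ((Cov.of o25_0 rfl).trans (Cov.of o25_1 rfl))

theorem co26 : Cov (orbI P lets 0 306936) 104000 108000 := ((Cov.of o26_0 rfl).trans (Cov.of o26_1 rfl))

theorem co27 : Cov (orbI P lets 0 306936) 108000 112000 := ((Cov.of o27_0 rfl).trans (Cov.of o27_1 rfl))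

theorem co28 : Cov (orbI P lets 0 306936) 112000 116000 := ((Cov.of o28_0 rfl).trans (Cov.of o28_1 rfl))

theorem co29 : Cov (orbI P lets 0 306936) 116000 120000 := ((Cov.of o29_0 rfl).trans (Cov.of o29_1 rfl))

theorem co30 : Cov (orbI P lets 0 306936) 120000 124000 := ((Cov.of o30_0 rfl).trans (Cov.of o30_1 rfl))

theorem co31 : Cov (orbI P lets 0 306936) 124000 128000 := ((Cov.of o31_0 rfl).trans (Cov.of o31_1 rfl))

theorem co32 : Cov (orbI P lets 0 306936) 128000 132000 := ((Cov.of o32_0 rfl).trans (Cov.of o32_1 rfl))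

theorem co33 : Cov (orbI P lets 0 306936) 132000 136000 := ((Cov.of o33_0 rfl).trans (Cov.of o33_1 rfl))

theorem co34 : Cov (orbI P lets 0 306936) 136000 140000 := ((Cov.of o34_0 rfl).trans (Cov.of o34_1 rfl))

theorem co35 : Cov (orbI P lets 0 306936) 140000 144000 := ((Cov.of o35_0 rfl).trans (Cov.of o35_1 rfl))

theorem co36 : Cov (orbI P lets 0 306936) 144000 148000 := ((Cov.of o36_0 rfl).trans (Cov.of o36_1 rfl))

theorem co37 : Cov (orbI P lets 0 306936) 148000 152000 := ((Cov.of o37_0 rfl).trans (Cov.of o37_1 rfl))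

theorem co38 : Cov (orbI P lets 0 306936) 152000 156000 := ((Cov.of o38_0 rfl).trans (Cov.of o38_1 rfl))

theorem co39 : Cov (orbI P lets 0 306936) 156000 160000 := ((Cov.of o39_0 rfl).trans (Cov.of o39_1 rfl))

theorem co40 : Cov (orbI P lets 0 306936) 160000 164000 := ((Cov.of o40_0 rfl).trans (Cov.of o40_1 rfl))

theorem co41 : Cov (orbI P lets 0 306936) 164000 168000 := ((Cov.of o41_0 rfl).trans (Cov.of o41_1 rfl))

theorem co42 : Cov (orbI P lets 0 306936) 168000 172000 := ((Cov.of o42_0 rfl).trans (Cov.of o42_1 rfl))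

theorem co43 : Cov (orbI P lets 0 306936) 172000 176000 := ((Cov.of o43_0 rfl).trans (Cov.of o43_1 rfl))

theorem co44 : Cov (orbI P lets 0 306936) 176000 180000 := ((Cov.of o44_0 rfl).trans (Cov.of o44_1 rfl))

theorem co45 : Cov (orbI P lets 0 306936) 180000 184000 := ((Cov.of o45_0 rfl).trans (Cov.of o45_1 rfl))

theorem co46 : Cov (orbI P lets 0 306936) 184000 188000 := ((Cov.of o46_0 rfl).trans (Cov.of o46_1 rfl))

theorem co47 : Cov (orbI P lets 0 306936) 188000 192000 := ((Cov.of o47_0 rfl).trans (Cov.of o47_1 rfl))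

theorem co48 : Cov (orbI P lets 0 306936) 192000 196000 := ((Cov.of o48_0 rfl).trans (Cov.of o48_1 rfl))

theorem co49 : Cov (orbI P lets 0 306936) 196000 200000 := ((Cov.of o49_0 rfl).trans (Cov.of o49_1 rfl))

theorem co50 : Cov (orbI P lets 0 306936) 200000 204000 := ((Cov.of o50_0 rfl).trans (Cov.of o50_1 rfl))

theorem co51 : Cov (orbI P lets 0 306936) 204000 208000 := ((Cov.of o51_0 rfl).trans (Cov.of o51_1 rfl))

theorem co52 : Cov (orbI P lets 0 306936) 208000 212000 := ((Cov.of o52_0 rfl).trans (Cov.of o52_1 rfl))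

theorem co53 : Cov (orbI P lets 0 306936) 212000 216000 := ((Cov.of o53_0 rfl).trans (Cov.of o53_1 rfl))

theorem co54 : Cov (orbI P lets 0 306936) 216000 220000 := ((Cov.of o54_0 rfl).trans (Cov.of o54_1 rfl))

theorem co55 : Cov (orbI P lets 0 306936) 220000 224000 := ((Cov.of o55_0 rfl).trans (Cov.of o55_1 rfl))

theorem co56 : Cov (orbI P lets 0 306936) 224000 228000 := ((Cov.of o56_0 rfl).trans (Cov.of o56_1 rfl))

theorem co57 : Cov (orbI P lets 0 306936) 228000 232000 := ((Cov.of o57_0 rfl).trans (Cov.of o57_1 rfl))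

theorem co58 : Cov (orbI P lets 0 306936) 232000 236000 := ((Cov.of o58_0 rfl).trans (Cov.of o58_1 rfl))

theorem co59 : Cov (orbI P lets 0 306936) 236000 240000 := ((Cov.of o59_0 rfl).trans (Cov.of o59_1 rfl))

theorem co60 : Cov (orbI P lets 0 306936) 240000 244000 := ((Cov.of o60_0 rfl).trans (Cov.of o60_1 rfl))

theorem co61 : Cov (orbI P lets 0 306936) 244000 248000 := ((Cov.of o61_0 rfl).trans (Cov.of o61_1 rfl))

theorem co62 : Cov (orbI P lets 0 306936) 248000 252000 := ((Cov.of o62_0 rfl).trans (Cov.of o62_1 rfl))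

theorem co63 : Cov (orbI P lets 0 306936) 252000 256000 := ((Cov.of o63_0 rfl).trans (Cov.of o63_1 rfl))

theorem co64 : Cov (orbI P lets 0 306936) 256000 260000 := ((Cov.of o64_0 rfl).trans (Cov.of o64_1 rfl))

theorem co65 : Cov (orbI P lets 0 306936) 260000 264000 := ((Cov.of o65_0 rfl).trans (Cov.of o65_1 rfl))

theorem co66 : Cov (orbI P lets 0 306936) 264000 268000 := ((Cov.of o66_0 rfl).trans (Cov.of o66_1 rfl))

theorem co67 : Cov (orbI P lets 0 306936) 268000 272000 := ((Cov.of o67_0 rfl).trans (Cov.of o67_1 rfl))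

theorem co68 : Cov (orbI P lets 0 306936) 272000 276000 := ((Cov.of o68_0 rfl).trans (Cov.of o68_1 rfl))

theorem co69 : Cov (orbI P lets 0 306936) 276000 280000 := ((Cov.of o69_0 rfl).trans (Cov.of o69_1 rfl))

theorem co70 : Cov (orbI P lets 0 306936) 280000 284000 := ((Cov.of o70_0 rfl).trans (Cov.of o70_1 rfl))

theorem co71 : Cov (orbI P lets 0 306936) 284000 288000 := ((Cov.of o71_0 rfl).trans (Cov.of o71_1 rfl))

theorem co72 : Cov (orbI P lets 0 306936) 288000 292000 := ((Cov.of o72_0 rfl).trans (Cov.of o72_1 rfl))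

theorem co73 : Cov (orbI P lets 0 306936) 292000 296000 := ((Cov.of o73_0 rfl).trans (Cov.of o73_1 rfl))

theorem co74 : Cov (orbI P lets 0 306936) 296000 300000 := ((Cov.of o74_0 rfl).trans (Cov.of o74_1 rfl))

theorem co75 : Cov (orbI P lets 0 306936) 300000 304000 := ((Cov.of o75_0 rfl).trans (Cov.of o75_1 rfl))

theorem co76 : Cov (orbI P lets 0 306936) 304000 306936 := ((Cov.of o76_0 rfl).trans (Cov.of o76_1 rfl))

theorem covI : Cov (orbI P lets 0 306936) 0 306936 := ((((((((((((((((((((((((((((((((((((((((((((((((((((((((((((((((((((((((((((co0).trans co1).trans co2).trans co3).trans co4).trans co5).trans co6).trans co7).trans co8).trans co9).trans co10).trans co11).trans co12).trans co13).trans co14).trans co15).trans co16).trans co17).trans co18).trans co19).trans co20).trans co21).trans co22).trans co23).trans co24).trans co25).trans co26).trans co27).trans co28).trans co29).trans co30).trans co31).trans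 co32).trans co33).trans co34).trans co35).trans co36).trans co37).trans co38).trans co39).trans co40).trans co41).trans co42).trans co43).trans co44).trans co45).trans co46).trans co47).trans co48).trans co49).trans co50).trans co51).trans co52).trans co53).trans co54).trans co55).trans co56).trans co57).trans co58).trans co59).trans co60).trans co61).trans co62).trans co63).trans co64).trans co65).trans co66).trans co67).trans co68).trans co69).trans co70).trans co71).trans co72).trans co73).trans co74).trans co75).trans co76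

theorem covO : Cov (orbC P lets [] 0 P.m) 0 P.m := orbC_of covI

theorem ch0_0 : Cov (orbI P letsk 0 1) 0 1 := (Cov.of h0_0_0 rfl)

theorem hi0 : Cov (orbI P letsk 0 1) 0 1 := ch0_0

theorem ho0 : Cov (orbC P letsk [] 0 1) 0 1 := orbC_of hi0

theorem ch1_0 : Cov (orbI P letsk 1 275265) 1 16001 := ((((((((Cov.of h1_0_0 rfl).trans (Cov.of h1_0_1 rfl)).trans (Cov.of h1_0_2 rfl)).trans (Cov.of h1_0_3 rfl)).trans (Cov.of h1_0_4 rfl)).trans (Cov.of h1_0_5 rfl)).trans (Cov.of h1_0_6 rfl)).trans (Cov.of h1_0_7 rfl))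

theorem ch1_1 : Cov (orbI P letsk 1 275265) 16001 32001 := ((((((((Cov.of h1_1_0 rfl).trans (Cov.of h1_1_1 rfl)).trans (Cov.of h1_1_2 rfl)).trans (Cov.of h1_1_3 rfl)).trans (Cov.of h1_1_4 rfl)).trans (Cov.of h1_1_5 rfl)).trans (Cov.of h1_1_6 rfl)).trans (Cov.of h1_1_7 rfl))

theorem ch1_2 : Cov (orbI P letsk 1 275265) 32001 48001 := ((((((((Cov.of h1_2_0 rfl).trans (Cov.of h1_2_1 rfl)).trans (Cov.of h1_2_2 rfl)).trans (Cov.of h1_2_3 rfl)).trans (Cov.of h1_2_4 rfl)).trans (Cov.of h1_2_5 rfl)).trans (Cov.of h1_2_6 rfl)).trans (Cov.of h1_2_7 rfl))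

theorem ch1_3 : Cov (orbI P letsk 1 275265) 48001 64001 := ((((((((Cov.of h1_3_0 rfl).trans (Cov.of h1_3_1 rfl)).trans (Cov.of h1_3_2 rfl)).trans (Cov.of h1_3_3 rfl)).trans (Cov.of h1_3_4 rfl)).trans (Cov.of h1_3_5 rfl)).trans (Cov.of h1_3_6 rfl)).trans (Cov.of h1_3_7 rfl))

theorem ch1_4 : Cov (orbI P letsk 1 275265) 64001 80001 := ((((((((Cov.of h1_4_0 rfl).trans (Cov.of h1_4_1 rfl)).trans (Cov.of h1_4_2 rfl)).trans (Cov.of h1_4_3 rfl)).trans (Cov.of h1_4_4 rfl)).trans (Cov.of h1_4_5 rfl)).trans (Cov.of h1_4_6 rfl)).trans (Cov.of h1_4_7 rfl))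

theorem ch1_5 : Cov (orbI P letsk 1 275265) 80001 96001 := ((((((((Cov.of h1_5_0 rfl).trans (Cov.of h1_5_1 rfl)).trans (Cov.of h1_5_2 rfl)).trans (Cov.of h1_5_3 rfl)).trans (Cov.of h1_5_4 rfl)).trans (Cov.of h1_5_5 rfl)).trans (Cov.of h1_5_6 rfl)).trans (Cov.of h1_5_7 rfl))

theorem ch1_6 : Cov (orbI P letsk 1 275265) 96001 112001 := ((((((((Cov.of h1_6_0 rfl).trans (Cov.of h1_6_1 rfl)).trans (Cov.of h1_6_2 rfl)).trans (Cov.of h1_6_3 rfl)).trans (Cov.of h1_6_4 rfl)).trans (Cov.of h1_6_5 rfl)).trans (Cov.of h1_6_6 rfl)).trans (Cov.of h1_6_7 rfl))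

theorem ch1_7 : Cov (orbI P letsk 1 275265) 112001 128001 := ((((((((Cov.of h1_7_0 rfl).trans (Cov.of h1_7_1 rfl)).trans (Cov.of h1_7_2 rfl)).trans (Cov.of h1_7_3 rfl)).trans (Cov.of h1_7_4 rfl)).trans (Cov.of h1_7_5 rfl)).trans (Cov.of h1_7_6 rfl)).trans (Cov.of h1_7_7 rfl))

theorem ch1_8 : Cov (orbI P letsk 1 275265) 128001 144001 := ((((((((Cov.of h1_8_0 rfl).trans (Cov.of h1_8_1 rfl)).trans (Cov.of h1_8_2 rfl)).trans (Cov.of h1_8_3 rfl)).trans (Cov.of h1_8_4 rfl)).trans (Cov.of h1_8_5 rfl)).trans (Cov.of h1_8_6 rfl)).trans (Cov.of h1_8_7 rfl))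

theorem ch1_9 : Cov (orbI P letsk 1 275265) 144001 160001 := ((((((((Cov.of h1_9_0 rfl).trans (Cov.of h1_9_1 rfl)).trans (Cov.of h1_9_2 rfl)).trans (Cov.of h1_9_3 rfl)).trans (Cov.of h1_9_4 rfl)).trans (Cov.of h1_9_5 rfl)).trans (Cov.of h1_9_6 rfl)).trans (Cov.of h1_9_7 rfl))

theorem ch1_10 : Cov (orbI P letsk 1 275265) 160001 176001 := ((((((((Cov.of h1_10_0 rfl).trans (Cov.of h1_10_1 rfl)).trans (Cov.of h1_10_2 rfl)).trans (Cov.of h1_10_3 rfl)).trans (Cov.of h1_10_4 rfl)).trans (Cov.of h1_10_5 rfl)).trans (Cov.of h1_10_6 rfl)).trans (Cov.of h1_10_7 rfl))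

theorem ch1_11 : Cov (orbI P letsk 1 275265) 176001 192001 := ((((((((Cov.of h1_11_0 rfl).trans (Cov.of h1_11_1 rfl)).trans (Cov.of h1_11_2 rfl)).trans (Cov.of h1_11_3 rfl)).trans (Cov.of h1_11_4 rfl)).trans (Cov.of h1_11_5 rfl)).trans (Cov.of h1_11_6 rfl)).trans (Cov.of h1_11_7 rfl))

theorem ch1_12 : Cov (orbI P letsk 1 275265) 192001 208001 := ((((((((Cov.of h1_12_0 rfl).trans (Cov.of h1_12_1 rfl)).trans (Cov.of h1_12_2 rfl)).trans (Cov.of h1_12_3 rfl)).trans (Cov.of h1_12_4 rfl)).trans (Cov.of h1_12_5 rfl)).trans (Cov.of h1_12_6 rfl)).trans (Cov.of h1_12_7 rfl))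

theorem ch1_13 : Cov (orbI P letsk 1 275265) 208001 224001 := ((((((((Cov.of h1_13_0 rfl).trans (Cov.of h1_13_1 rfl)).trans (Cov.of h1_13_2 rfl)).trans (Cov.of h1_13_3 rfl)).trans (Cov.of h1_13_4 rfl)).trans (Cov.of h1_13_5 rfl)).trans (Cov.of h1_13_6 rfl)).trans (Cov.of h1_13_7 rfl))

theorem ch1_14 : Cov (orbI P letsk 1 275265) 224001 240001 := ((((((((Cov.of h1_14_0 rfl).trans (Cov.of h1_14_1 rfl)).trans (Cov.of h1_14_2 rfl)).trans (Cov.of h1_14_3 rfl)).trans (Cov.of h1_14_4 rfl)).trans (Cov.of h1_14_5 rfl)).trans (Cov.of h1_14_6 rfl)).trans (Cov.of h1_14_7 rfl))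

theorem ch1_15 : Cov (orbI P letsk 1 275265) 240001 256001 := ((((((((Cov.of h1_15_0 rfl).trans (Cov.of h1_15_1 rfl)).trans (Cov.of h1_15_2 rfl)).trans (Cov.of h1_15_3 rfl)).trans (Cov.of h1_15_4 rfl)).trans (Cov.of h1_15_5 rfl)).trans (Cov.of h1_15_6 rfl)).trans (Cov.of h1_15_7 rfl))

theorem ch1_16 : Cov (orbI P letsk 1 275265) 256001 272001 := ((((((((Cov.of h1_16_0 rfl).trans (Cov.of h1_16_1 rfl)).trans (Cov.of h1_16_2 rfl)).trans (Cov.of h1_16_3 rfl)).trans (Cov.of h1_16_4 rfl)).trans (Cov.of h1_16_5 rfl)).trans (Cov.of h1_16_6 rfl)).trans (Cov.of h1_16_7 rfl))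

theorem ch1_17 : Cov (orbI P letsk 1 275265) 272001 275265 := ((Cov.of h1_17_0 rfl).trans (Cov.of h1_17_1 rfl))

theorem hi1 : Cov (orbI P letsk 1 275265) 1 275265 := (((((((((((((((((ch1_0).trans ch1_1).trans ch1_2).trans ch1_3).trans ch1_4).trans ch1_5).trans ch1_6).trans ch1_7).trans ch1_8).trans ch1_9).trans ch1_10).trans ch1_11).trans ch1_12).trans ch1_13).trans ch1_14).trans ch1_15).trans ch1_16).trans ch1_17

theorem ho1 : Cov (orbC P letsk [] 1 275265) 1 275265 := orbC_of hi1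

theorem ch2_0 : Cov (orbI P letsk 275265 306936) 275265 291265 := ((((((((Cov.of h2_0_0 rfl).trans (Cov.of h2_0_1 rfl)).trans (Cov.of h2_0_2 rfl)).trans (Cov.of h2_0_3 rfl)).trans (Cov.of h2_0_4 rfl)).trans (Cov.of h2_0_5 rfl)).trans (Cov.of h2_0_6 rfl)).trans (Cov.of h2_0_7 rfl))

theorem ch2_1 : Cov (orbI P letsk 275265 306936) 291265 306936 := ((((((((Cov.of h2_1_0 rfl).trans (Cov.of h2_1_1 rfl)).trans (Cov.of h2_1_2 rfl)).trans (Cov.of h2_1_3 rfl)).trans (Cov.of h2_1_4 rfl)).trans (Cov.of h2_1_5 rfl)).trans (Cov.of h2_1_6 rfl)).trans (Cov.of h2_1_7 rfl))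

theorem hi2 : Cov (orbI P letsk 275265 306936) 275265 306936 := (ch2_0).trans ch2_1

theorem ho2 : Cov (orbC P letsk [] 275265 306936) 275265 306936 := orbC_of hi2

theorem orbs : Orbs P letsk [] [0, 1, 275265, 306936] :=
  ⟨by decide +kernel, by decide +kernel, ho0, ⟨by decide +kernel, by decide +kernel, ho1, ⟨by decide +kernel, by decide +kernel, ho2, trivial⟩⟩⟩

theorem last : lastD 1 [275265, 306936] = P.m := rfl

end Cfsg.Agent.CosetEnum.Fi24T12
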