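import Cfsg.Agent.CosetEnum.Fi24.Y8DataT0

/-! Certificate of a coset enumeration (generated data, owner: helper28). -/

set_option autoImplicit false
set_option maxRecDepth 1000000

namespace Cfsg.Agent.CosetEnum.Fi24Y8

noncomputable def tab : T := t0

def lw : WT := .e

def L : LL := .cons 1 1 (.n 3 (.n 1 (.l [8,1,8] []) (.n 2 (.l [7,1,7] []) (.l [2,1,2,1,2] []))) (.n 5 (.n 4 (.l [3,1,3] []) (.l [4,1,4] [])) (.n 6 (.l [5,1,5] []) (.l [6,1,6,1,6] [])))) (.l [] []) ( .cons 2 2 (.n 3 (.n 1 (.l [8,2,8] []) (.n 2 (.l [7,2,7] []) (.l [6,2,6] []))) (.n 5 (.n 4 (.l [3,2,3,2,3] []) (.l [4,2,4,2,4] [])) (.n 6 (.l [5,2,5] []) (.l [1,2,1,2,1] [])))) (.l [] []) ( .cons 3 3 (.n 3 (.n 1 (.l [8,3,8] []) (.n 2 (.l [7,3,7] []) (.l [6,3,6] []))) (.n 5 (.n 4 (.l [1,3,1] []) (.l [4,3,4]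 [])) (.n 6 (.l [5,3,5,3,5] []) (.l [2,3,2,3,2] [])))) (.l [] []) ( .cons 4 4 (.n 3 (.n 1 (.l [8,4,8] []) (.n 2 (.l [7,4,7] []) (.l [6,4,6] []))) (.n 5 (.n 4 (.l [1,4,1] []) (.l [5,4,5] [])) (.n 6 (.l [2,4,2,4,2] []) (.l [3,4,3] [])))) (.l [] []) ( .cons 5 5 (.n 3 (.n 1 (.l [8,5,8] []) (.n 2 (.l [7,5,7] []) (.l [6,5,6] []))) (.n 5 (.n 4 (.l [1,5,1] []) (.l [2,5,2] [])) (.n 6 (.l [4,5,4] []) (.l [3,5,3,5,3] [])))) (.l [] []) ( .cons 6 6 (.n 3 (.n 1 (.l [8,6,8] []) (.n 2 (.l [1,6,1,6,1] []) (.l [2,6,2] []))) (.n 5 (.n 4 (.l [3,6,3] []) (.l [4,6,4] [])) (.n 6 (.l [5,6,5] []) (.l [7,6,7,6,7] [])))) (.l [] []) ( .cons 7 7 (.n 3 (.n 1 (.l [6,7,6,7,6] []) (.n 2 (.l [1,7,1] []) (.l [2,7,2] []))) (.n 5 (.n 4 (.l [3,7,3] []) (.l [4,7,4] [])) (.n 6 (.l [5,7,5] []) (.l [8,7,8,7,8]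 [])))) (.l [] []) ( .cons 8 8 (.n 4 (.n 2 (.n 1 (.l [7,8,7,8,7] []) (.l [6,8,6] [])) (.n 3 (.l [1,8,1] []) (.l [2,8,2] []))) (.n 6 (.n 5 (.l [3,8,3] []) (.l [4,8,4] [])) (.n 7 (.l [5,8,5] []) (.l [4,5,3,2,1,6,7,4,5,3,2,1,6,7,4,5,3,2,1,6,7,4,5,3,2,1,6,7,4,5,3,2,1,6,7,4,5,3,2,1,6,7,4,5,3,2,1,6,7,4,5,3,2,1,6,7,4,5,3,2,1,6,7,8,4,5,3,2,1,6,7,4,5,3,2,1,6,7,4,5,3,2,1,6,7,4,5,3,2,1,6,7,4,5,3,2,1,6,7,4,5,3,2,1,6,7,4,5,3,2,1,6,7,4,5,3,2,1,6,7,4,5,3,2,1,6,7,8,4,5,3,2,1,6,7,4,5,3,2,1,6,7,4,5,3,2,1,6,7,4,5,3,2,1,6,7,4,5,3,2,1,6,7,4,5,3,2,1,6,7,4,5,3,2,1,6,7,4,5,3,2,1,6,7,4,5,3,2,1,6,7] [])))) (.e) ( .nil ))))))))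

def iv : List (Nat × Nat) := []

def RL : List (List Nat × Nat) := [([1, 2], 3), ([1, 3], 2), ([1, 4], 2), ([1, 5], 2), ([1, 6], 3), ([1, 7], 2), ([1, 8], 2), ([2, 3], 3), ([2, 4], 3), ([2, 5], 2), ([2, 6], 2), ([2, 7], 2), ([2, 8], 2), ([3, 4], 2), ([3, 5], 3), ([3, 6], 2), ([3, 7], 2), ([3, 8], 2), ([4, 5], 2), ([4, 6], 2), ([4, 7], 2), ([4, 8], 2), ([5, 6], 2), ([5, 7], 2), ([5, 8], 2), ([6, 7], 3), ([6, 8], 2), ([7, 8], 3), ([7, 6, 1, 2, 3, 5, 4, 7, 6, 1, 2, 3, 5, 4, 7, 6, 1, 2, 3, 5, 4, 7, 6, 1, 2, 3, 5, 4, 7, 6, 1, 2, 3, 5, 4, 7, 6, 1, 2, 3, 5, 4, 7, 6, 1, 2, 3, 5, 4, 7, 6, 1, 2, 3, 5, 4, 7, 6, 1, 2, 3, 5, 4, 8], 3)]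

def subs : List (List Nat) := [[1], [2], [3], [4], [5], [6], [7]]

noncomputable def P : Par := ⟨tab, 396, 161390617380431786853494948250188242145606612051826469551916209783790476376052574664352834580008614464743948248296718335, 120, icG 8 iv, lw⟩

end Cfsg.Agent.CosetEnum.Fi24Y8
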