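import Cfsg.Agent.CosetEnum.Fi24.Y9DataT0
import Cfsg.Agent.CosetEnum.Fi24.Y9DataT1

/-! Certificate of a coset enumeration (generated data, owner: helper28). -/

set_option autoImplicit false
set_option maxRecDepth 1000000

namespace Cfsg.Agent.CosetEnum.Fi24Y9

noncomputable def tab : T := .n 31744 (t0) (t1)

def lw : WT := .n 19 (.n 9 (.n 4 (.n 2 (.n 1 (.l [7,9,7,6,1,2,3,5,4,7,6,1,2,3,5,4,7,6,1,2,3,5,4,7,6,1,2,3,5,4,7,6,1,2,3,5,4,7,6,1,2,3,5,4,7,6,1,2,3,5,4,7,6,1,2,3,5,4,7,6,1,2,3,5,4,9,4,5,3,2,1,6,7,4,5,3,2,1,6,7,4,5,3,2,1,6,7,4,5,3,2,1,6,7,4,5,3,2,1,6,7,4,5,3,2,1,6,7,4,5,3,2,1,6,7,4,5,3,2,1,6,7,4,5,3,2,1,6] []) (.l [9,3,9,3] [])) (.n 3 (.l [7,1,7,1] []) (.l [9,7,9,7] [])))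 (.n 6 (.n 5 (.l [5,1,5,1] []) (.l [9,6,9,6] [])) (.n 7 (.l [9,1,9,1] []) (.n 8 (.l [4,7,4,7] []) (.l [1,7,1,7] []))))) (.n 14 (.n 11 (.n 10 (.l [7,3,7,3] []) (.l [4,1,4,1] [])) (.n 12 (.l [1,2,1,2,1,2] []) (.n 13 (.l [3,4,3,4] []) (.l [3,1,3,1] [])))) (.n 16 (.n 15 (.l [4,5,3,2,1,6,7,4,5,3,2,1,6,7,4,5,3,2,1,6,7,4,5,3,2,1,6,7,4,5,3,2,1,6,7,4,5,3,2,1,6,7,4,5,3,2,1,6,7,4,5,3,2,1,6,7,9,7,6,1,2,3,5,4,7,6,1,2,3,5,4,7,6,1,2,3,5,4,7,6,1,2,3,5,4,7,6,1,2,3,5,4,7,6,1,2,3,5,4,7,6,1,2,3,5,4,7,6,1,2,3,5,4,7,6,1,2,3,5,4,9,4,5,3,2,1,6,7] []) (.l [1,3,1,3] [])) (.n 17 (.l [3,6,3,6] []) (.n 18 (.l [4,3,4,3] []) (.l [1,4,1,4] [])))))) (.n 28 (.n 23 (.n 21 (.n 20 (.l [2,8,2,8] []) (.l [6,5,6,5]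 [])) (.n 22 (.l [5,2,5,2] []) (.l [2,3,5,4,7,6,1,2,3,5,4,7,6,1,2,3,5,4,7,6,1,2,3,5,4,7,6,1,2,3,5,4,7,6,1,2,3,5,4,9,4,5,3,2,1,6,7,4,5,3,2,1,6,7,4,5,3,2,1,6,7,4,5,3,2,1,6,7,4,5,3,2,1,6,7,4,5,3,2,1,6,7,4,5,3,2,1,6,7,4,5,3,2,1,6,7,4,5,3,2,1,6,7,9,7,6,1,2,3,5,4,7,6,1,2,3,5,4,7,6,1,2,3,5,4,7,6,1] []))) (.n 25 (.n 24 (.l [7,2,7,2] []) (.l [4,6,4,6] [])) (.n 26 (.l [4,5,4,5] []) (.n 27 (.l [1,5,1,5] []) (.l [9,2,9,2] []))))) (.n 33 (.n 30 (.n 29 (.l [6,3,6,3] []) (.l [6,2,6,2] [])) (.n 31 (.l [2,7,2,7] []) (.n 32 (.l [8,1,8,1] []) (.l [8,2,8,2] [])))) (.n 35 (.n 34 (.l [8,3,8,3] []) (.l [7,4,7,4] [])) (.n 36 (.l [2,6,2,6] []) (.n 37 (.l [1,8,1,8] []) (.l [2,1,2,1,2,1] []))))))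

def L : LL := .cons 1 1 (.n 5 (.n 2 (.n 1 (.l [9,1,9] []) (.l [4,1,4] [])) (.n 3 (.l [3,1,3] []) (.n 4 (.l [6,1,6,1,6] []) (.l [5,1,5] [])))) (.n 7 (.n 6 (.l [2,1,2,1,2] []) (.l [7,1,7] [])) (.n 8 (.l [8,1,8] []) (.n 9 (.l [2,3,5,4,9,4,5,3,2,1,6,7,4,5,3,2,1,6,7,4,5,3,2,1,6,7,4,5,3,2,1,6,7,4,5,3,2,1,6,7,4,5,3,2,1,6,7,4,5,3,2,1,6,7,4,5,3,2,1,6,7,4,5,3,2,1,6,7,9,7,6,1,2,3,5,4,7,6,1,2,3,5,4,7,6,1,2,3,5,4,7,6,1,2,3,5,4,7,6,1,2,3,5,4,7,6,1,2,3,5,4,7,6,1,2,3,5,4,7,6,1,2,3,5,4,7,6] []) (.l [2,3,5,4,7,6,1,2,3,5,4,7,6,1,2,3,5,4,7,6,1,2,3,5,4,7,6,1,2,3,5,4,7,6,1,2,3,5,4,7,6,1,2,3,5,4,8,7,6,1,2,3,5,4,7,6,1,2,3,5,4,7,6,1,2,3,5,4,7,6,1,2,3,5,4,7,6,1,2,3,5,4,7,6,1,2,3,5,4,7,6,1,2,3,5,4,7,6,1,2,3,5,4,7,6,1,2,3,5,4,8,7,6,1,2,3,5,4,7,6,1,2,3,5,4,7,6,1,2,3,5,4,7,6,1,2,3,5,4,7,6,1,2,3,5,4,7,6,1,2,3,5,4,7,6,1,2,3,5,4,7,6,1,2,3,5,4,7,6,1,2,3,5,4,8,7,6,1,2,3,5,4,7,6,1,2,3,5,4,7,6]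 []))))) (.l [] []) ( .cons 2 2 (.n 5 (.n 2 (.n 1 (.l [9,2,9] []) (.l [1,2,1,2,1] [])) (.n 3 (.l [3,2,3,2,3] []) (.n 4 (.l [6,2,6] []) (.l [5,2,5] [])))) (.n 7 (.n 6 (.l [7,2,7] []) (.l [4,2,4,2,4] [])) (.n 8 (.l [8,2,8] []) (.n 9 (.l [1,6,7,4,5,3,2,1,6,7,4,5,3,2,1,6,7,4,5,3,2,1,6,7,9,7,6,1,2,3,5,4,7,6,1,2,3,5,4,7,6,1,2,3,5,4,7,6,1,2,3,5,4,7,6,1,2,3,5,4,7,6,1,2,3,5,4,7,6,1,2,3,5,4,7,6,1,2,3,5,4,7,6,1,2,3,5,4,9,4,5,3,2,1,6,7,4,5,3,2,1,6,7,4,5,3,2,1,6,7,4,5,3,2,1,6,7,4,5,3,2,1,6,7,4,5,3] []) (.l [3,5,4,7,6,1,2,3,5,4,9,4,5,3,2,1,6,7,4,5,3,2,1,6,7,4,5,3,2,1,6,7,4,5,3,2,1,6,7,4,5,3,2,1,6,7,4,5,3,2,1,6,7,4,5,3,2,1,6,7,4,5,3,2,1,6,7,4,5,3,2,1,6,7,9,7,6,1,2,3,5,4,7,6,1,2,3,5,4,7,6,1,2,3,5,4,7,6,1,2,3,5,4,7,6,1,2,3,5,4,7,6,1,2,3,5,4,7,6,1,2,3,5,4,7,6,1]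 []))))) (.l [] []) ( .cons 3 3 (.n 6 (.n 3 (.n 1 (.l [9,3,9] []) (.n 2 (.l [4,3,4] []) (.l [6,3,6] []))) (.n 4 (.l [5,3,5,3,5] []) (.n 5 (.l [2,3,2,3,2] []) (.l [1,3,1] [])))) (.n 9 (.n 7 (.l [7,3,7] []) (.n 8 (.l [8,3,8] []) (.l [5,4,7,6,1,2,3,5,4,7,6,1,2,3,5,4,7,6,1,2,3,5,4,7,6,1,2,3,5,4,7,6,1,2,3,5,4,7,6,1,2,3,5,4,9,4,5,3,2,1,6,7,4,5,3,2,1,6,7,4,5,3,2,1,6,7,4,5,3,2,1,6,7,4,5,3,2,1,6,7,4,5,3,2,1,6,7,4,5,3,2,1,6,7,4,5,3,2,1,6,7,4,5,3,2,1,6,7,9,7,6,1,2,3,5,4,7,6,1,2,3,5,4,7,6,1,2] []))) (.n 10 (.l [5,4,7,6,1,2,3,5,4,7,6,1,2,3,5,4,9,4,5,3,2,1,6,7,4,5,3,2,1,6,7,4,5,3,2,1,6,7,4,5,3,2,1,6,7,4,5,3,2,1,6,7,4,5,3,2,1,6,7,4,5,3,2,1,6,7,4,5,3,2,1,6,7,4,5,3,2,1,6,7,9,7,6,1,2,3,5,4,7,6,1,2,3,5,4,7,6,1,2,3,5,4,7,6,1,2,3,5,4,7,6,1,2,3,5,4,7,6,1,2,3,5,4,7,6,1,2]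 []) (.n 11 (.l [2,1,6,7,4,5,3,2,1,6,7,4,5,3,2,1,6,7,9,7,6,1,2,3,5,4,7,6,1,2,3,5,4,7,6,1,2,3,5,4,7,6,1,2,3,5,4,7,6,1,2,3,5,4,7,6,1,2,3,5,4,7,6,1,2,3,5,4,7,6,1,2,3,5,4,7,6,1,2,3,5,4,9,4,5,3,2,1,6,7,4,5,3,2,1,6,7,4,5,3,2,1,6,7,4,5,3,2,1,6,7,4,5,3,2,1,6,7,4,5,3,2,1,6,7,4,5] []) (.l [5,4,7,6,1,2,3,5,4,7,6,1,2,3,5,4,7,6,1,2,3,5,4,7,6,1,2,3,5,4,7,6,1,2,3,5,4,7,6,1,2,3,5,4,7,6,1,2,3,5,4,8,7,6,1,2,3,5,4,7,6,1,2,3,5,4,7,6,1,2,3,5,4,7,6,1,2,3,5,4,7,6,1,2,3,5,4,7,6,1,2,3,5,4,7,6,1,2,3,5,4,7,6,1,2,3,5,4,7,6,1,2,3,5,4,8,7,6,1,2,3,5,4,7,6,1,2,3,5,4,7,6,1,2,3,5,4,7,6,1,2,3,5,4,7,6,1,2,3,5,4,7,6,1,2,3,5,4,7,6,1,2,3,5,4,7,6,1,2,3,5,4,7,6,1,2,3,5,4,8,7,6,1,2,3,5,4,7,6,1,2] []))))) (.l [] []) (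 .cons 4 4 (.n 5 (.n 2 (.n 1 (.l [2,4,2,4,2] []) (.l [1,4,1] [])) (.n 3 (.l [3,4,3] []) (.n 4 (.l [6,4,6] []) (.l [5,4,5] [])))) (.n 7 (.n 6 (.l [7,4,7] []) (.l [8,4,8] [])) (.n 8 (.l [9,4,9,4,9] []) (.n 9 (.l [5,3,2,1,6,7,4,5,3,2,1,6,7,4,5,3,2,1,6,7,4,5,3,2,1,6,7,4,5,3,2,1,6,7,9,7,6,1,2,3,5,4,7,6,1,2,3,5,4,7,6,1,2,3,5,4,7,6,1,2,3,5,4,7,6,1,2,3,5,4,7,6,1,2,3,5,4,7,6,1,2,3,5,4,7,6,1,2,3,5,4,7,6,1,2,3,5,4,9,4,5,3,2,1,6,7,4,5,3,2,1,6,7,4,5,3,2,1,6,7,4,5,3,2,1,6,7] []) (.l [7,6,1,2,3,5,4,7,6,1,2,3,5,4,9,4,5,3,2,1,6,7,4,5,3,2,1,6,7,4,5,3,2,1,6,7,4,5,3,2,1,6,7,4,5,3,2,1,6,7,4,5,3,2,1,6,7,4,5,3,2,1,6,7,4,5,3,2,1,6,7,4,5,3,2,1,6,7,9,7,6,1,2,3,5,4,7,6,1,2,3,5,4,7,6,1,2,3,5,4,7,6,1,2,3,5,4,7,6,1,2,3,5,4,7,6,1,2,3,5,4,7,6,1,2,3,5]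 []))))) (.l [] []) ( .cons 5 5 (.n 4 (.n 2 (.n 1 (.l [9,5,9] []) (.l [4,5,4] [])) (.n 3 (.l [2,5,2] []) (.l [1,5,1] []))) (.n 6 (.n 5 (.l [6,5,6] []) (.l [7,5,7] [])) (.n 7 (.l [8,5,8] []) (.l [3,5,3,5,3] [])))) (.l [] []) ( .cons 6 6 (.n 4 (.n 2 (.n 1 (.l [9,6,9] []) (.l [4,6,4] [])) (.n 3 (.l [2,6,2] []) (.l [3,6,3] []))) (.n 6 (.n 5 (.l [5,6,5] []) (.l [7,6,7,6,7] [])) (.n 7 (.l [8,6,8] []) (.l [1,6,1,6,1] [])))) (.l [] []) ( .cons 7 7 (.n 5 (.n 2 (.n 1 (.l [9,7,9] []) (.l [4,7,4] [])) (.n 3 (.l [2,7,2] []) (.n 4 (.l [1,7,1] []) (.l [3,7,3] [])))) (.n 7 (.n 6 (.l [5,7,5] []) (.l [8,7,8,7,8] [])) (.n 8 (.l [6,7,6,7,6] []) (.n 9 (.l [6,1,2,3,5,4,9,4,5,3,2,1,6,7,4,5,3,2,1,6,7,4,5,3,2,1,6,7,4,5,3,2,1,6,7,4,5,3,2,1,6,7,4,5,3,2,1,6,7,4,5,3,2,1,6,7,4,5,3,2,1,6,7,4,5,3,2,1,6,7,9,7,6,1,2,3,5,4,7,6,1,2,3,5,4,7,6,1,2,3,5,4,7,6,1,2,3,5,4,7,6,1,2,3,5,4,7,6,1,2,3,5,4,7,6,1,2,3,5,4,7,6,1,2,3,5,4]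 []) (.l [4,5,3,2,1,6,7,4,5,3,2,1,6,7,4,5,3,2,1,6,7,4,5,3,2,1,6,7,4,5,3,2,1,6,7,4,5,3,2,1,6,7,9,7,6,1,2,3,5,4,7,6,1,2,3,5,4,7,6,1,2,3,5,4,7,6,1,2,3,5,4,7,6,1,2,3,5,4,7,6,1,2,3,5,4,7,6,1,2,3,5,4,7,6,1,2,3,5,4,7,6,1,2,3,5,4,9,4,5,3,2,1,6,7,4,5,3,2,1,6,7,4,5,3,2,1,6] []))))) (.l [] []) ( .cons 8 8 (.n 4 (.n 2 (.n 1 (.l [9,8,9] []) (.l [4,8,4] [])) (.n 3 (.l [2,8,2] []) (.l [1,8,1] []))) (.n 6 (.n 5 (.l [3,8,3] []) (.l [6,8,6] [])) (.n 7 (.l [5,8,5] []) (.l [7,8,7,8,7] [])))) (.l [] []) ( .cons 9 9 (.n 4 (.n 2 (.n 1 (.l [4,9,4,9,4] []) (.l [2,9,2] [])) (.n 3 (.l [1,9,1] []) (.l [3,9,3] []))) (.n 6 (.n 5 (.l [6,9,6] []) (.l [5,9,5] [])) (.n 7 (.l [7,9,7] []) (.l [8,9,8] [])))) (.e)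 ( .nil )))))))))

def iv : List (Nat × Nat) := []

def RL : List (List Nat × Nat) := [([1, 2], 3), ([1, 3], 2), ([1, 4], 2), ([1, 5], 2), ([1, 6], 3), ([1, 7], 2), ([1, 8], 2), ([1, 9], 2), ([2, 3], 3), ([2, 4], 3), ([2, 5], 2), ([2, 6], 2), ([2, 7], 2), ([2, 8], 2), ([2, 9], 2), ([3, 4], 2), ([3, 5], 3), ([3, 6], 2), ([3, 7], 2), ([3, 8], 2), ([3, 9], 2), ([4, 5], 2), ([4, 6], 2), ([4, 7], 2), ([4, 8], 2), ([4, 9], 3), ([5, 6], 2), ([5, 7], 2), ([5, 8], 2), ([5, 9], 2), ([6, 7], 3), ([6, 8], 2), ([6, 9], 2), ([7, 8], 3), ([7, 9], 2), ([8, 9], 2), ([7, 6, 1, 2, 3, 5, 4, 7, 6, 1, 2, 3, 5, 4, 7, 6, 1, 2, 3, 5, 4, 7, 6, 1, 2, 3, 5, 4, 7, 6, 1, 2, 3, 5, 4, 7, 6, 1, 2, 3, 5, 4, 7,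 6, 1, 2, 3, 5, 4, 7, 6, 1, 2, 3, 5, 4, 7, 6, 1, 2, 3, 5, 4, 8], 3), ([9, 7, 6, 1, 2, 3, 5, 4, 7, 6, 1, 2, 3, 5, 4, 7, 6, 1, 2, 3, 5, 4, 7, 6, 1, 2, 3, 5, 4, 7, 6, 1, 2, 3, 5, 4, 7, 6, 1, 2, 3, 5, 4, 7, 6, 1, 2, 3, 5, 4, 7, 6, 1, 2, 3, 5, 4, 7, 6, 1, 2, 3, 5, 4, 9, 4, 5, 3, 2, 1, 6, 7, 4, 5, 3, 2, 1, 6, 7, 4, 5, 3, 2, 1, 6, 7, 4, 5, 3, 2, 1, 6, 7, 4, 5, 3, 2, 1, 6, 7, 4, 5, 3, 2, 1, 6, 7, 4, 5, 3, 2, 1, 6, 7, 4, 5, 3, 2, 1, 6, 7, 4, 5, 3, 2, 1, 6, 7], 1)]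

def subs : List (List Nat) := [[1], [2], [3], [4], [5], [6], [7], [8]]

noncomputable def P : Par := ⟨tab, 440, 2839213766779714416208296124562517712318911565184836172974571090549372219192960637992933791850638927971728600024477257552869537611775, 36920, icG 9 iv, lw⟩

end Cfsg.Agent.CosetEnum.Fi24Y9
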